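import Groth.Agent.CohBase.Leray

/-!
# Naturality of Leray's comparison in endomorphisms of the sheaf
-/

universe u

open CategoryTheory CategoryTheory.Limits Opposite TopologicalSpace

namespace Groth.Agent.CohBase

variable {X : Type u} [TopologicalSpace X] {ι : Type u} (U : ι → Opens X)

lemma ccMap_ccMap {P Q R : (Opens X)ᵒᵖ ⥤ AddCommGrpCat.{u}} (f : P ⟶ Q) (g : Q ⟶ R) (n : ℕ)
    (c : CC U P n) : ccMap U g n (ccMap U f n c) = ccMap U (f ≫ g) n c := rfl

lemma ccMap_mem_Zc {P Q : (Opens X)ᵒᵖ ⥤ AddCommGrpCat.{u}} (f : P ⟶ Q) {p : ℕ} (z : Zc U P p) :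
    ccMap U f p z.1 ∈ Zc U Q p := by
  show cdiff U Q p (ccMap U f p z.1) = 0
  rw [cdiff_ccMap, show cdiff U P p z.1 = 0 from z.2, map_zero]

lemma hδ_naturality {S S' : ShortComplex (AbSh X)} (hS : S.ShortExact) (hS' : S'.ShortExact)
    (φ : S ⟶ S') (V : Opens X) (n : ℕ) (x : HU V S.X₃ n) :
    hmap V φ.τ₁ (n + 1) (hδ hS V n x) = hδ hS' V n (hmap V φ.τ₃ n x) := by
  change (x.comp hS.extClass rfl).comp (Abelian.Ext.mk₀ φ.τ₁) (add_zero (n + 1)) =
    (x.comp (Abelian.Ext.mk₀ φ.τ₃) (add_zero n)).comp hS'.extClass rfl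
  rw [Abelian.Ext.comp_assoc_of_third_deg_zero, Abelian.Ext.comp_assoc_of_second_deg_zero,
    ShortComplex.ShortExact.extClass_naturality hS hS' φ]

/-- A comparison map which commutes with the endomorphisms of the sheaf. -/
def HasComparisonNat (F : AbSh X) (p : ℕ) : Prop :=
  ∃ Φ : Zc U F.obj p →+ HU (⊤ : Opens X) F p,
    Function.Surjective Φ ∧ (∀ z, Φ z = 0 ↔ z.1 ∈ Bc U F.obj p) ∧
      ∀ (f : F ⟶ F) (z z' : Zc U F.obj p), z'.1 = ccMap U f.hom p z.1 →
        Φ z' = hmap (⊤ : Opens X) f p (Φ z)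

/-- An endomorphism extends to the standard short exact sequence. -/
lemma exists_extend {F : AbSh X} (f : F ⟶ F) : ∃ φ : injSeq F ⟶ injSeq F, φ.τ₁ = f := by
  let g : Injective.under F ⟶ Injective.under F := Injective.factorThru (f ≫ Injective.ι F) (Injective.ι F)
  have hg : Injective.ι F ≫ g = f ≫ Injective.ι F := Injective.comp_factorThru _ _
  refine ⟨⟨f, g, cokernel.map (Injective.ι F) (Injective.ι F) f g hg, hg.symm, ?_⟩, rfl⟩
  exact (cokernel.π_desc _ _ _).symm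

/-- The inductive step with naturality. -/
lemma comparisonNat_step {F : AbSh X} (hF : Acyclic U F) (p : ℕ)
    (ΦQ : Zc U (injSeq F).X₃.obj p →+ HU (⊤ : Opens X) (injSeq F).X₃ p)
    (hΦs : Function.Surjective ΦQ)
    (hH : ∀ z, hδ (injSeq_shortExact F) ⊤ p (ΦQ z) = 0 ↔
      ∃ a, cdiff U (injSeq F).X₂.obj p a = 0 ∧ ccMap U (injSeq F).g.hom p a = z.1)
    (hnat : ∀ (f : (injSeq F).X₃ ⟶ (injSeq F).X₃) (z z' : Zc U (injSeq F).X₃.obj p),
      z'.1 = ccMap U f.hom p z.1 → ΦQ z' = hmap (⊤ : Opens X) f p (ΦQ z)) :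
    HasComparisonNat U F (p + 1) := by
  have hS := injSeq_shortExact F
  let S := injSeq F
  let M : AddSubgroup (CC U S.X₂.obj p) :=
    ((cdiff U S.X₃.obj p).comp (ccMap U S.g.hom p)).ker
  let toQ : M →+ Zc U S.X₃.obj p :=
    ((ccMap U S.g.hom p).comp M.subtype).codRestrict _ fun e => e.2
  have hfac : ∀ e : M, ∃ t, ccMap U S.f.hom (p + 1) t = cdiff U S.X₂.obj p e.1 := fun e =>
    ccMap_exact U hS _ (by rw [← cdiff_ccMap]; exact e.2)
  choose t ht using hfac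
  have htc : ∀ e, cdiff U S.X₁.obj (p + 1) (t e) = 0 := fun e =>
    ccMap_injective U hS _ (by rw [← cdiff_ccMap, ht, cdiff_cdiff, map_zero])
  let π : M →+ Zc U F.obj (p + 1) := AddMonoidHom.mk' (fun e => ⟨t e, htc e⟩) fun a b =>
    Subtype.ext (ccMap_injective U hS _ (by
      change ccMap U S.f.hom _ (t (a + b)) = ccMap U S.f.hom _ (t a + t b)
      rw [map_add, ht, ht, ht]
      exact map_add _ _ _))
  have hπ : Function.Surjective π := fun z => by
    obtain ⟨e, he⟩ := injective_cexact U S.X₂ p (ccMap U S.f.hom (p + 1) z.1) (by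
      rw [cdiff_ccMap, show cdiff U S.X₁.obj (p + 1) z.1 = 0 from z.2, map_zero])
    have hm : e ∈ M := by
      change cdiff U S.X₃.obj p (ccMap U S.g.hom p e) = 0
      rw [cdiff_ccMap, he, ccMap_comp U hS]
    exact ⟨⟨e, hm⟩, Subtype.ext (ccMap_injective U hS _ ((ht ⟨e, hm⟩).trans he))⟩
  haveI := subsingleton_of_injective (⊤ : Opens X) S.X₂ p
  let φ : M →+ HU (⊤ : Opens X) F (p + 1) := (hδ hS ⊤ p).comp (ΦQ.comp toQ)
  have htoQ : Function.Surjective toQ := fun z => by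
    obtain ⟨e, he⟩ := hF.surjective U z.1
    exact ⟨⟨e, show cdiff U S.X₃.obj p (ccMap U S.g.hom p e) = 0 by rw [he]; exact z.2⟩,
      Subtype.ext he⟩
  have hφs : Function.Surjective φ := (hδ_surjective hS ⊤ p).comp (hΦs.comp htoQ)
  have hker : ∀ e : M, φ e = 0 ↔ ∃ b, cdiff U S.X₁.obj p b = t e := by
    intro e
    refine (hH (toQ e)).trans ⟨fun ⟨a, ha, hga⟩ => ?_, fun ⟨b, hb⟩ => ?_⟩
    · change ccMap U S.g.hom p a = ccMap U S.g.hom p e.1 at hga
      obtain ⟨b, hb⟩ := ccMap_exact U hS (e.1 - a) (by rw [map_sub, hga, sub_self])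
      refine ⟨b, ccMap_injective U hS _ ?_⟩
      rw [← cdiff_ccMap, hb, map_sub, ha, sub_zero, ht]
    · refine ⟨e.1 - ccMap U S.f.hom p b, ?_, ?_⟩
      · rw [map_sub, cdiff_ccMap]
        erw [hb]
        rw [ht, sub_self]
      · rw [map_sub, ccMap_comp U hS, sub_zero]
        rfl
  obtain ⟨ψ, hψ⟩ := addMonoidHom_descend π hπ φ fun e he => (hker e).mpr
    ⟨0, by rw [map_zero]; exact (congrArg Subtype.val he).symm⟩
  refine ⟨ψ, fun y => ?_, fun z => ?_, fun f z z' hz' => ?_⟩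
  · obtain ⟨e, rfl⟩ := hφs y
    exact ⟨π e, hψ e⟩
  · obtain ⟨e, rfl⟩ := hπ z
    rw [hψ]
    exact hker e
  · obtain ⟨e, rfl⟩ := hπ z
    obtain ⟨Ψ, rfl⟩ := exists_extend f
    have h23 : Ψ.τ₂ ≫ S.g = S.g ≫ Ψ.τ₃ := Ψ.comm₂₃
    have h12 : Ψ.τ₁ ≫ S.f = S.f ≫ Ψ.τ₂ := Ψ.comm₁₂
    have hgg : ccMap U S.g.hom p (ccMap U Ψ.τ₂.hom p e.1) = ccMap U Ψ.τ₃.hom p (ccMap U S.g.hom p e.1) := by
      rw [ccMap_ccMap, ccMap_ccMap]
      exact congrArg (fun k => ccMap U k p e.1) (congrArg (fun k => k.hom) h23)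
    let e' : M := ⟨ccMap U Ψ.τ₂.hom p e.1, by
      change cdiff U S.X₃.obj p (ccMap U S.g.hom p (ccMap U Ψ.τ₂.hom p e.1)) = 0
      rw [hgg, cdiff_ccMap, show cdiff U S.X₃.obj p (ccMap U S.g.hom p e.1) = 0 from e.2, map_zero]⟩
    have he' : π e' = z' := by
      refine Subtype.ext (ccMap_injective U hS _ ((ht e').trans ?_))
      show cdiff U S.X₂.obj p (ccMap U Ψ.τ₂.hom p e.1) = ccMap U S.f.hom (p + 1) z'.1
      rw [hz', cdiff_ccMap, ← ht, ccMap_ccMap]
      show ccMap U (S.f.hom ≫ Ψ.τ₂.hom) (p + 1) (t e) = ccMap U S.f.hom _ (ccMap U Ψ.τ₁.hom _ (t e))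
      rw [ccMap_ccMap]
      exact congrArg (fun k => ccMap U k (p + 1) (t e)) (congrArg (fun k => k.hom) h12.symm)
    rw [← he', hψ, hψ]
    show hδ hS ⊤ p (ΦQ (toQ e')) = hmap ⊤ Ψ.τ₁ (p + 1) (hδ hS ⊤ p (ΦQ (toQ e)))
    rw [hδ_naturality hS hS Ψ, hnat Ψ.τ₃ (toQ e) (toQ e') hgg]

lemma eps_natural {F G : AbSh X} (f : F ⟶ G) (s : F.obj.obj (op ⊤)) :
    ccMap U f.hom 0 (eps U F s).1 = (eps U G (f.hom.app (op ⊤) s)).1 := by
  funext i
  exact (res_map f.hom _ _).symm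

lemma comparisonNat_zero (F : AbSh X) (hcov : ⊤ ≤ iSup U) : HasComparisonNat U F 0 := by
  refine ⟨(Φ0 U F hcov).toAddMonoidHom, (Φ0 U F hcov).surjective, fun _ =>
    (map_eq_zero_iff _ (Φ0 U F hcov).injective).trans Subtype.coe_injective.eq_iff.symm,
    fun f z z' hz' => ?_⟩
  obtain ⟨s, rfl⟩ := (eps_bijective U F hcov).2 z
  obtain rfl : z' = eps U F (f.hom.app (op ⊤) s) := Subtype.ext (hz'.trans (eps_natural U f s))
  simp only [AddEquiv.coe_toAddMonoidHom, Φ0_eps]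
  apply (H0Equiv ⊤ F).injective
  rw [H0Equiv_hmap, AddEquiv.apply_symm_apply, AddEquiv.apply_symm_apply]

/-- Leray's comparison, natural in endomorphisms. -/
theorem hasComparisonNat (hcov : ⊤ ≤ iSup U) {F : AbSh X} (hF : Acyclic U F) (p : ℕ) :
    HasComparisonNat U F p := by
  induction p generalizing F with
  | zero => exact comparisonNat_zero U F hcov
  | succ p ih =>
    have hS := injSeq_shortExact F
    cases p with
    | zero =>
      refine comparisonNat_step U hF 0 (Φ0 U _ hcov).toAddMonoidHom (Φ0 U _ hcov).surjective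
        (fun z => ?_) (fun f z z' hz' => ?_)
      · obtain ⟨s, rfl⟩ := (eps_bijective U (injSeq F).X₃ hcov).2 z
        rw [AddEquiv.coe_toAddMonoidHom, Φ0_eps, hδ_eq_zero_iff]
        constructor
        · rintro ⟨y, hy⟩
          refine ⟨aug U _ (fun _ => le_top) (H0Equiv ⊤ _ y), cdiff_aug _ _ _, ?_⟩
          have h := congrArg (H0Equiv ⊤ (injSeq F).X₃) hy
          rw [H0Equiv_hmap, AddEquiv.apply_symm_apply] at h
          funext i
          rw [← h]
          exact (res_map (injSeq F).g.hom _ _).symm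
        · rintro ⟨a, ha, hga⟩
          obtain ⟨r, hr⟩ := aug_exact (injSeq F).X₂ (fun _ => le_top) hcov a ha
          refine ⟨(H0Equiv ⊤ _).symm r, ?_⟩
          apply (H0Equiv ⊤ (injSeq F).X₃).injective
          rw [H0Equiv_hmap, AddEquiv.apply_symm_apply, AddEquiv.apply_symm_apply]
          refine aug_injective (U := U) (injSeq F).X₃ (fun _ => le_top) hcov ?_
          refine Eq.trans ?_ hga
          rw [← hr]
          funext i
          exact res_map (injSeq F).g.hom _ _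
      · obtain ⟨s, rfl⟩ := (eps_bijective U (injSeq F).X₃ hcov).2 z
        obtain rfl : z' = eps U _ (f.hom.app (op ⊤) s) := Subtype.ext (hz'.trans (eps_natural U f s))
        simp only [AddEquiv.coe_toAddMonoidHom, Φ0_eps]
        apply (H0Equiv ⊤ _).injective
        rw [H0Equiv_hmap, AddEquiv.apply_symm_apply, AddEquiv.apply_symm_apply]
    | succ p =>
      obtain ⟨ΦQ, hΦs, hΦk, hΦn⟩ := ih (hF.quot U)
      refine comparisonNat_step U hF (p + 1) ΦQ hΦs (fun z => ?_) hΦn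
      haveI := subsingleton_of_injective (⊤ : Opens X) (injSeq F).X₂ p
      haveI := subsingleton_of_injective (⊤ : Opens X) (injSeq F).X₂ (p + 1)
      rw [map_eq_zero_iff _ (hδ_bijective hS ⊤ (p + 1)).1, hΦk]
      constructor
      · rintro ⟨q, hq⟩
        obtain ⟨a, rfl⟩ := hF.surjective U q
        exact ⟨cdiff U _ p a, cdiff_cdiff _ _ _, by rw [← cdiff_ccMap]; exact hq⟩
      · rintro ⟨a, ha, hga⟩
        obtain ⟨a', rfl⟩ := injective_cexact U (injSeq F).X₂ p a ha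
        exact ⟨ccMap U _ p a', by rw [cdiff_ccMap]; exact hga⟩

end Groth.Agent.CohBase
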