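import Groth.Agent.CohBase.Cech
import Mathlib.CategoryTheory.Sites.SheafCohomology.MayerVietoris
import Mathlib.Topology.Sheaves.MayerVietoris

/-!
# Mayer–Vietoris vanishing
-/

universe u

open CategoryTheory CategoryTheory.Limits Opposite TopologicalSpace Abelian

namespace Groth.Agent.CohBase

variable {X : Type u} [TopologicalSpace X]

instance subsingleton_sections_bot (F : AbSh X) : Subsingleton (F.obj.obj (op (⊥ : Opens X))) :=
  ⟨fun _ _ => sheaf_ext F (κ := PEmpty.{u + 1}) (V := PEmpty.elim) (fun k => k.elim) bot_le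
    (fun k => k.elim)⟩

lemma isZero_freeAb_bot : IsZero (freeAb (⊥ : Opens X)) :=
  (IsZero.iff_id_eq_zero _).mpr ((secEquiv _ _).injective (Subsingleton.elim _ _))

lemma subsingleton_HU_bot (F : AbSh X) (n : ℕ) : Subsingleton (HU (⊥ : Opens X) F n) :=
  subsingleton_of_forall_eq 0 fun x => by
    rw [← Ext.mk₀_id_comp x, isZero_freeAb_bot.eq_of_src (𝟙 _) 0, Ext.mk₀_zero, Ext.zero_comp]

/-- Mayer–Vietoris vanishing. -/
lemma subsingleton_HU_sup (F : AbSh X) (U V : Opens X) (n : ℕ)
    [Subsingleton (HU (U ⊓ V) F n)] [Subsingleton (HU U F (n + 1))]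
    [Subsingleton (HU V F (n + 1))] : Subsingleton (HU (U ⊔ V) F (n + 1)) := by
  refine subsingleton_of_forall_eq 0 fun x => ?_
  let S := Opens.mayerVietorisSquare U V
  have hS := S.shortComplex_shortExact
  have h0 : (Ext.mk₀ S.shortComplex.g).comp (show Ext S.shortComplex.X₃ F (n + 1) from x)
      (zero_add _) = 0 :=
    Ext.biprod_ext
      (@Subsingleton.elim (HU U F (n + 1)) _ _ _) (@Subsingleton.elim (HU V F (n + 1)) _ _ _)
  obtain ⟨y, hy⟩ := Ext.contravariant_sequence_exact₃ hS F
    (show Ext S.shortComplex.X₃ F (n + 1) from x) h0 (n₀ := n) (Nat.add_comm 1 n)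
  have hy0 : y = 0 := @Subsingleton.elim (HU (U ⊓ V) F n) _ _ _
  rw [hy0, Ext.comp_zero] at hy
  exact hy.symm

/-- A union of `t` members of an `⊓`-closed acyclic family has no cohomology in degrees `≥ t`. -/
theorem subsingleton_HU_iUnion (F : AbSh X) (B : Opens X → Prop)
    (hinf : ∀ {U V}, B U → B V → B (U ⊓ V))
    (hac : ∀ {U}, B U → ∀ n, Subsingleton (HU U F (n + 1))) :
    ∀ (t : ℕ) (U : Fin t → Opens X), (∀ a, B (U a)) → ∀ n, t ≤ n →
      Subsingleton (HU (⨆ a, U a) F n) := by
  intro t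
  induction t with
  | zero =>
    intro U _ n _
    rw [iSup_of_empty]
    exact subsingleton_HU_bot F n
  | succ t ih =>
    intro U hU n hn
    obtain ⟨n, rfl⟩ : ∃ m, n = m + 1 := ⟨n - 1, by omega⟩
    have he : (⨆ a, U a) = (⨆ a : Fin t, U a.castSucc) ⊔ U (Fin.last t) := by
      refine le_antisymm (iSup_le fun a => ?_) (sup_le (iSup_le fun a => le_iSup U _) (le_iSup U _))
      cases a using Fin.lastCases with
      | last => exact le_sup_right
      | cast a => exact (le_iSup (fun a : Fin t => U a.castSucc) a).trans le_sup_left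
    rw [he]
    haveI : Subsingleton (HU ((⨆ a : Fin t, U a.castSucc) ⊓ U (Fin.last t)) F n) := by
      rw [iSup_inf_eq]
      exact ih _ (fun a => hinf (hU _) (hU _)) n (by omega)
    haveI := hac (hU (Fin.last t)) n
    haveI : Subsingleton (HU (⨆ a : Fin t, U a.castSucc) F (n + 1)) :=
      ih _ (fun a => hU _) (n + 1) (by omega)
    exact subsingleton_HU_sup F _ _ n

end Groth.Agent.CohBase
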