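import Groth.Agent.CohBase.Standard
import Groth.Agent.CohBase.Leray
import Groth.Agent.CohBase.MV
import Groth.Prelude.Def_CohB1

/-!
# Quasi-coherent sheaves have no higher cohomology on affine opens
-/

universe u

open CategoryTheory Opposite TopologicalSpace AlgebraicGeometry

namespace Groth.Agent.CohBase

variable {X : Scheme.{u}}

/-- Basic opens of a fixed affine open. -/
def IsBasicIn (W V : X.Opens) : Prop := ∃ f : Γ(X, W), V = X.basicOpen f

lemma IsBasicIn.inf {W V V' : X.Opens} : IsBasicIn W V → IsBasicIn W V' → IsBasicIn W (V ⊓ V') := by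
  rintro ⟨f, rfl⟩ ⟨f', rfl⟩
  exact ⟨f * f', (X.basicOpen_mul f f').symm⟩

lemma IsBasicIn.isAffineOpen {W V : X.Opens} (hW : IsAffineOpen W) :
    IsBasicIn W V → IsAffineOpen V := by
  rintro ⟨f, rfl⟩
  exact hW.basicOpen f

lemma isBasicIn_self (W : X.Opens) : IsBasicIn W W :=
  ⟨1, (Scheme.basicOpen_of_isUnit _ isUnit_one).symm⟩

/-- Standard coverings by basic opens of `W`. -/
def StdCov (W : X.Opens) {ι : Type u} (U : ι → X.Opens) : Prop :=
  Finite ι ∧ (∀ a, IsBasicIn W (U a)) ∧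
    ∃ (V : X.Opens) (_ : IsAffineOpen V) (g : ι → Γ(X, V)),
      Ideal.span (Set.range g) = ⊤ ∧ U = stdU g

/-- The Cartan setup of an affine open. -/
def affineSetup {W : X.Opens} (hW : IsAffineOpen W) : CartanSetup X where
  B := IsBasicIn W
  Cov := StdCov W
  inf := IsBasicIn.inf
  mem h := h.2.1
  refine_cov := by
    rintro V ⟨f, rfl⟩ κ O hle hcov
    have hV := hW.basicOpen f
    have : ∀ x : ↥(X.basicOpen f), ∃ h : Γ(X, W),
        (∃ k, X.basicOpen h ≤ O k) ∧ X.basicOpen h ≤ X.basicOpen f ∧ x.1 ∈ X.basicOpen h := by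
      intro x
      obtain ⟨k, hk⟩ := Opens.mem_iSup.mp (hcov x.2)
      obtain ⟨h, h1, h2⟩ := hW.exists_basicOpen_le (V := O k) ⟨x.1, hk⟩ (X.basicOpen_le f x.2)
      exact ⟨h, ⟨k, h1⟩, h1.trans (hle k), h2⟩
    choose h hk hf hx using this
    obtain ⟨s, hs⟩ := hV.isCompact.elim_finite_subcover (fun x => (X.basicOpen (h x) : Set X))
      (fun x => (X.basicOpen (h x)).isOpen) fun x hx' => Set.mem_iUnion.mpr ⟨⟨x, hx'⟩, hx _⟩
    let ι : Type u := ↥(s : Set ↥(X.basicOpen f))
    let g : ι → Γ(X, X.basicOpen f) := fun a =>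
      X.presheaf.map (homOfLE (X.basicOpen_le f)).op (h a.1)
    have hU : ∀ a, stdU g a = X.basicOpen (h a.1) := fun a => by
      simp only [stdU, g, Scheme.basicOpen_res]
      exact inf_eq_right.mpr (hf a.1)
    have hcov' : X.basicOpen f ≤ ⨆ a, stdU g a := by
      intro x hx'
      obtain ⟨y, hy, hxy⟩ := Set.mem_iUnion₂.mp (hs hx')
      exact Opens.mem_iSup.mpr ⟨⟨y, hy⟩, by rw [hU]; exact hxy⟩
    refine ⟨ι, stdU g, ⟨inferInstance, fun a => ⟨h a.1, hU a⟩, X.basicOpen f, hV, g, ?_, rfl⟩,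
      fun a => ?_, hcov'⟩
    · rw [← hV.self_le_iSup_basicOpen_iff]
      exact hcov'.trans (iSup_le fun a =>
        le_iSup (fun r : ↥(Set.range g) => X.basicOpen r.1) ⟨g a, a, rfl⟩)
    · rw [hU]; exact hk a.1

/-- Higher cohomology of a quasi-coherent module vanishes on affine opens. -/
theorem affine_vanishing (M : X.Modules) [Coh.IsQCoh M] {W : X.Opens} (hW : IsAffineOpen W)
    (n : ℕ) : Subsingleton (HU W (Coh.toAb M) (n + 1)) := by
  refine (affineSetup hW).subsingleton_HU ?_ (isBasicIn_self W) n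
  rintro ι U ⟨hfin, -, V, hV, g, hg, rfl⟩ m
  exact cexact_stdU g M hV hg m

lemma acyclic_of_affine (M : X.Modules) [Coh.IsQCoh M] {ι : Type u} (U : ι → X.Opens)
    (hU : ∀ (m : ℕ) (i : Fin (m + 1) → ι), IsAffineOpen (inter U i)) :
    Acyclic U (Coh.toAb M) :=
  fun m i k => affine_vanishing M (hU m i) k

/-- `HH` as cohomology on the whole space. -/
noncomputable def HHEquiv (M : X.Modules) (n : ℕ) :
    Coh.HH X M n ≃+ HU (⊤ : X.Opens) (Coh.toAb M) n :=
  HEquiv (Coh.toAb M) n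

lemma subsingleton_HH (M : X.Modules) (n : ℕ) (h : Subsingleton (HU (⊤ : X.Opens) (Coh.toAb M) n)) :
    Subsingleton (Coh.HH X M n) :=
  haveI := h
  (HHEquiv M n).toEquiv.subsingleton

/-- Free modules are quasi-coherent. -/
noncomputable def freePresentation (σ : Type u) :
    (SheafOfModules.free.{u} (R := X.ringCatSheaf) σ).Presentation :=
  SheafOfModules.presentationOfIsCokernelFree.{u} (ι := PEmpty.{u + 1}) (σ := σ) 0 (𝟙 _)
    (Limits.zero_comp)
    (Limits.CokernelCofork.IsColimit.ofπ' _ _ fun g _ => ⟨g, Category.id_comp g⟩)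

/-- The structure module is quasi-coherent. -/
instance isQCoh_structureModule : Coh.IsQCoh (Coh.structureModule X) := by
  refine (SheafOfModules.isQuasicoherent X.ringCatSheaf).prop_of_iso ?_
    (freePresentation (X := X) PUnit.{u + 1}).isQuasicoherent
  exact Limits.coproductUniqueIso _

lemma inter_eq_finset {ι : Type u} [DecidableEq ι] (U : ι → X.Opens) {m : ℕ} (i : Fin m → ι) :
    inter U i = ⨅ a ∈ Finset.univ.image i, U a := by
  rw [Finset.iInf_finset_image]
  simp [inter]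

/-- A compact open inside an affine open is a finite union of basic opens. -/
lemma exists_fin_basic {W V : X.Opens} (hW : IsAffineOpen W) (hle : V ≤ W)
    (hV : IsCompact (V : Set X)) :
    ∃ (t : ℕ) (U : Fin t → X.Opens), (∀ a, IsBasicIn W (U a)) ∧ V = ⨆ a, U a := by
  have : ∀ x : ↥V, ∃ h : Γ(X, W), X.basicOpen h ≤ V ∧ x.1 ∈ X.basicOpen h :=
    fun x => hW.exists_basicOpen_le x (hle x.2)
  choose h hh hx using this
  obtain ⟨s, hs⟩ := hV.elim_finite_subcover (fun x => (X.basicOpen (h x) : Set X))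
    (fun x => (X.basicOpen (h x)).isOpen) fun x hx' => Set.mem_iUnion.mpr ⟨⟨x, hx'⟩, hx _⟩
  refine ⟨s.card, fun a => X.basicOpen (h (s.equivFin.symm a).1), fun a => ⟨_, rfl⟩,
    le_antisymm (fun x hx' => ?_) (iSup_le fun a => hh _)⟩
  obtain ⟨y, hy, hxy⟩ := Set.mem_iUnion₂.mp (hs hx')
  exact Opens.mem_iSup.mpr ⟨s.equivFin ⟨y, hy⟩, by simpa using hxy⟩

end Groth.Agent.CohBase
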