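import Groth.Agent.CohBase.Leray
import Mathlib.Topology.Sheaves.Functors
import Mathlib.CategoryTheory.Abelian.RightDerived
import Mathlib.CategoryTheory.Abelian.Injective.Ext
import Mathlib.CategoryTheory.Sites.EpiMono

/-!
# Pushforward of acyclic sheaves
-/

universe u

open CategoryTheory CategoryTheory.Limits Opposite TopologicalSpace

namespace Groth.Agent.CohBase

section

variable {X : Type u} [TopologicalSpace X]

/-- Epimorphisms from local lifts. -/
lemma epi_of_local {F G : AbSh X} (g : F ⟶ G)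
    (h : ∀ (W : Opens X) (s : G.obj.obj (op W)) (x : X), x ∈ W →
      ∃ (V : Opens X) (hVW : V ≤ W), x ∈ V ∧ ∃ t, g.hom.app (op V) t = res G.obj hVW s) :
    Epi g := by
  have : Sheaf.IsLocallySurjective g := ⟨fun {W} s x hx => by
    obtain ⟨V, hVW, hxV, t, ht⟩ := h W s x hx
    exact ⟨V, homOfLE hVW, ⟨t, ht⟩, hxV⟩⟩
  exact (Sheaf.isLocallySurjective_iff_epi' AddCommGrpCat.{u} g).mp this

/-- Exactness from local exactness on sections. -/
lemma exact_of_local (S : ShortComplex (AbSh X))
    (h : ∀ (W : Opens X) (s : S.X₂.obj.obj (op W)), S.g.hom.app (op W) s = 0 → ∀ x ∈ W,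
      ∃ (V : Opens X) (hVW : V ≤ W), x ∈ V ∧ ∃ t, S.f.hom.app (op V) t = res S.X₂.obj hVW s) :
    S.Exact := by
  rw [S.exact_iff_epi_kernel_lift]
  refine epi_of_local _ fun W s x hx => ?_
  obtain ⟨V, hVW, hxV, t, ht⟩ := h W ((kernel.ι S.g).hom.app (op W) s)
    (congr_arg (fun φ : kernel S.g ⟶ S.X₃ => φ.hom.app (op W) s) (kernel.condition S.g)) x hx
  refine ⟨V, hVW, hxV, t, sections_injective (kernel.ι S.g) V ?_⟩
  refine Eq.trans ?_ (ht.trans (res_map (kernel.ι S.g).hom hVW s))
  exact congr_arg (fun φ : S.X₁ ⟶ S.X₂ => φ.hom.app (op V) t) (kernel.lift_ι S.g S.f S.zero)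

/-- The setup of all coverings. -/
def allSetup (X : Type u) [TopologicalSpace X] : CartanSetup X where
  B _ := True
  Cov _ := True
  inf _ _ := trivial
  mem _ _ := trivial
  refine_cov _ κ W _ hcov := ⟨κ, W, trivial, fun a => ⟨a, le_rfl⟩, hcov⟩

end

variable {X Y : TopCat.{u}} (f : X ⟶ Y)

/-- Pushforward of abelian sheaves. -/
noncomputable abbrev pushS : AbSh X ⥤ AbSh Y := TopCat.Sheaf.pushforward AddCommGrpCat.{u} f

/-- Preimage of an open. -/
abbrev pre (V : Opens Y) : Opens X := (Opens.map f).obj V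

/-- Acyclicity on preimages of a basis. -/
def PushAcyclic (B : Opens Y → Prop) (F : AbSh X) : Prop :=
  ∀ V, B V → ∀ n, Subsingleton (HU (pre f V) F (n + 1))

lemma PushAcyclic.quot {B : Opens Y → Prop} {F : AbSh X} (hF : PushAcyclic f B F) :
    PushAcyclic f B (injSeq F).X₃ := fun V hV n => by
  haveI := subsingleton_of_injective (pre f V) (injSeq F).X₂ n
  haveI : Subsingleton (HU (pre f V) (injSeq F).X₁ (n + 1 + 1)) := hF V hV (n + 1)
  exact subsingleton_quot (injSeq_shortExact F) (pre f V) (n + 1)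

lemma pre_mono {V V' : Opens Y} (h : V ≤ V') : pre f V ≤ pre f V' := fun _ hx => h hx

lemma inter_pre {ι : Type u} (U : ι → Opens Y) {n : ℕ} (i : Fin n → ι) :
    inter (fun a => pre f (U a)) i = pre f (inter U i) := by
  ext x
  exact mem_inter_iff _ |>.trans (mem_inter_iff U).symm

/-- Sections of the pushforward. -/
noncomputable def psec (F : AbSh X) (V : Opens Y) :
    ((pushS f).obj F).obj.obj (op V) ≃+ F.obj.obj (op (pre f V)) :=
  AddEquiv.refl _

lemma psec_res (F : AbSh X) {V V' : Opens Y} (h : V' ≤ V) (s : ((pushS f).obj F).obj.obj (op V)) :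
    psec f F V' (res ((pushS f).obj F).obj h s) = res F.obj (pre_mono f h) (psec f F V s) :=
  rfl

lemma psec_map {F G : AbSh X} (φ : F ⟶ G) (V : Opens Y)
    (s : ((pushS f).obj F).obj.obj (op V)) :
    psec f G V (((pushS f).map φ).hom.app (op V) s) = φ.hom.app (op (pre f V)) (psec f F V s) :=
  rfl

/-- Pushforwards of injective sheaves have exact Čech complexes. -/
theorem push_injective_cexact {ι : Type u} (U : ι → Opens Y) (I : AbSh X) [Injective I] (n : ℕ) :
    CExact U ((pushS f).obj I).obj n := by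
  intro c hc
  let U' : ι → Opens X := fun a => pre f (U a)
  let c' : CC U' I.obj (n + 1) := fun i =>
    res I.obj (inter_pre f U i).le (psec f I (inter U i) (c i))
  have hc' : cdiff U' I.obj (n + 1) c' = 0 := by
    funext i
    have h := congrArg (fun z => res I.obj (inter_pre f U i).le (psec f I (inter U i) z))
      (congrFun hc i)
    simp only [cdiff_apply, map_sum, map_zsmul, psec_res, res_res, Pi.zero_apply, map_zero] at h
    refine Eq.trans ?_ h
    rw [cdiff_apply]
    simp only [c', res_res]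
  obtain ⟨b, hb⟩ := injective_cexact U' I n c' hc'
  let b' : CC U ((pushS f).obj I).obj n := fun i =>
    (psec f I (inter U i)).symm (res I.obj (inter_pre f U i).ge (b i))
  refine ⟨b', funext fun i => (psec f I (inter U i)).injective ?_⟩
  have h := congrArg (res I.obj (inter_pre f U i).ge) (congrFun hb i)
  simp only [cdiff_apply, map_sum, map_zsmul, c', res_res, res_self] at h
  refine Eq.trans ?_ h
  simp only [cdiff_apply, map_sum, map_zsmul, psec_res, b', AddEquiv.apply_symm_apply, res_res]

/-- Pushforwards of injective sheaves are acyclic on every open. -/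
theorem push_injective_acyclic (I : AbSh X) [Injective I] (V : Opens Y) (n : ℕ) :
    Subsingleton (HU V ((pushS f).obj I) (n + 1)) :=
  (allSetup Y).subsingleton_HU (fun _ U _ m => push_injective_cexact f U I m) (V := V) trivial n

variable {B : Opens Y → Prop} (hB : ∀ (W : Opens Y) (y : Y), y ∈ W → ∃ V, B V ∧ y ∈ V ∧ V ≤ W)

include hB in
lemma push_shortExact {S : ShortComplex (AbSh X)} (hS : S.ShortExact)
    [(pushS f).PreservesZeroMorphisms] (hF : PushAcyclic f B S.X₁) : (S.map (pushS f)).ShortExact := by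
  haveI := hS.mono_f
  refine ShortComplex.ShortExact.mk' ?_ ?_ ?_
  · refine exact_of_local _ fun W s hs y hy => ⟨W, le_rfl, hy, ?_⟩
    obtain ⟨t, ht⟩ := sections_exact hS (pre f W) s hs
    exact ⟨t, ht.trans (res_self _ _ _).symm⟩
  · refine ⟨fun {Z} g h e => ?_⟩
    ext W s
    exact sections_injective S.f (pre f W.unop)
      (congr_arg (fun φ : Z ⟶ (pushS f).obj S.X₂ => φ.hom.app W s) e)
  · refine epi_of_local _ fun W s y hy => ?_
    obtain ⟨V, hV, hyV, hVW⟩ := hB W y hy
    haveI := hF V hV 0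
    exact ⟨V, hVW, hyV, sections_surjective hS (pre f V) (res S.X₃.obj (pre_mono f hVW) s)⟩

/-- Degree zero comparison. -/
noncomputable def pushZero (F : AbSh X) :
    HU (⊤ : Opens X) F 0 ≃+ HU (⊤ : Opens Y) ((pushS f).obj F) 0 :=
  (H0Equiv ⊤ F).trans (H0Equiv (⊤ : Opens Y) ((pushS f).obj F)).symm

lemma pushZero_natural {F G : AbSh X} (φ : F ⟶ G) (x : HU (⊤ : Opens X) F 0) :
    pushZero f G (hmap ⊤ φ 0 x) = hmap ⊤ ((pushS f).map φ) 0 (pushZero f F x) := by
  apply (H0Equiv (⊤ : Opens Y) ((pushS f).obj G)).injective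
  rw [H0Equiv_hmap]
  simp only [pushZero, AddEquiv.trans_apply]
  erw [AddEquiv.apply_symm_apply, AddEquiv.apply_symm_apply]
  exact H0Equiv_hmap ⊤ φ x

include hB in
/-- Cohomology of the pushforward. -/
theorem push_comparison [(pushS f).PreservesZeroMorphisms] {F : AbSh X} (hF : PushAcyclic f B F) (n : ℕ) :
    Nonempty (HU (⊤ : Opens X) F n ≃+ HU (⊤ : Opens Y) ((pushS f).obj F) n) := by
  induction n generalizing F with
  | zero => exact ⟨pushZero f F⟩
  | succ n ih =>
    have hS := injSeq_shortExact F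
    have hS' := push_shortExact f hB hS hF
    let S := injSeq F
    let S' := S.map (pushS f)
    have hX2 : ∀ m, Subsingleton (HU (⊤ : Opens Y) S'.X₂ (m + 1)) := fun m => by
      change Subsingleton (HU (⊤ : Opens Y) ((pushS f).obj S.X₂) (m + 1))
      exact push_injective_acyclic f S.X₂ ⊤ m
    cases n with
    | zero =>
      haveI := subsingleton_of_injective (⊤ : Opens X) S.X₂ 0
      haveI := hX2 0
      let φ₁ := hδ hS ⊤ 0
      let φ₂ := (hδ hS' ⊤ 0).comp (pushZero f S.X₃).toAddMonoidHom
      have h1 : Function.Surjective φ₁ := hδ_surjective hS ⊤ 0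
      have h2 : Function.Surjective φ₂ :=
        (hδ_surjective hS' ⊤ 0).comp (pushZero f S.X₃).surjective
      have hk : φ₁.ker = φ₂.ker := by
        ext x
        rw [AddMonoidHom.mem_ker, AddMonoidHom.mem_ker]
        refine (hδ_eq_zero_iff hS ⊤ 0 x).trans ?_
        refine Iff.trans ?_ (hδ_eq_zero_iff hS' ⊤ 0 _).symm
        constructor
        · rintro ⟨y, rfl⟩
          exact ⟨pushZero f S.X₂ y, (pushZero_natural f S.g y).symm⟩
        · rintro ⟨y, hy⟩
          obtain ⟨z, rfl⟩ := (pushZero f S.X₂).surjective y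
          exact ⟨z, (pushZero f S.X₃).injective ((pushZero_natural f S.g z).trans hy)⟩
      exact ⟨((QuotientAddGroup.quotientKerEquivOfSurjective φ₁ h1).symm.trans
        (QuotientAddGroup.quotientAddEquivOfEq hk)).trans
        (QuotientAddGroup.quotientKerEquivOfSurjective φ₂ h2)⟩
    | succ n =>
      obtain ⟨e⟩ := ih (hF.quot f)
      haveI := subsingleton_of_injective (⊤ : Opens X) S.X₂ n
      haveI := subsingleton_of_injective (⊤ : Opens X) S.X₂ (n + 1)
      haveI := hX2 n
      haveI := hX2 (n + 1)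
      exact ⟨((AddEquiv.ofBijective _ (hδ_bijective hS ⊤ (n + 1))).symm.trans e).trans
        (AddEquiv.ofBijective _ (hδ_bijective hS' ⊤ (n + 1)))⟩

include hB in
/-- Higher direct images of acyclic sheaves vanish. -/
theorem isZero_rightDerived [(pushS f).Additive] {F : AbSh X} (hF : PushAcyclic f B F) (n : ℕ) :
    IsZero (((pushS f).rightDerived (n + 1)).obj F) := by
  let R : InjectiveResolution F := Classical.choice HasInjectiveResolution.out
  refine IsZero.of_iso ?_ (R.isoRightDerivedObj (pushS f) (n + 1))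
  change IsZero (HomologicalComplex.homology _ (n + 1))
  rw [← HomologicalComplex.exactAt_iff_isZero_homology,
    HomologicalComplex.exactAt_iff' _ n (n + 1) (n + 2) (by simp) (by simp)]
  refine exact_of_local _ fun W s hs y hy => ?_
  obtain ⟨V, hV, hyV, hVW⟩ := hB W y hy
  refine ⟨V, hVW, hyV, ?_⟩
  haveI := hF V hV n
  let s' : (R.cocomplex.X (n + 1)).obj.obj (op (pre f V)) :=
    res (R.cocomplex.X (n + 1)).obj (pre_mono f hVW) s
  have hs' : (R.cocomplex.d (n + 1) (n + 2)).hom.app (op (pre f V)) s' = 0 := by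
    rw [← res_map]
    exact (congrArg _ hs).trans (map_zero _)
  have hc : (secEquiv (pre f V) _).symm s' ≫ R.cocomplex.d (n + 1) (n + 2) = 0 := by
    rw [secEquiv_symm_comp, hs', map_zero]
  obtain ⟨g, hg⟩ := (R.extMk_eq_zero_iff ((secEquiv (pre f V) _).symm s') (n + 2) rfl hc n rfl).mp
    (Subsingleton.elim (α := HU (pre f V) F (n + 1)) _ _)
  refine ⟨secEquiv (pre f V) _ g, ?_⟩
  change (R.cocomplex.d n (n + 1)).hom.app (op (pre f V)) _ = s'
  rw [← secEquiv_comp, hg, AddEquiv.apply_symm_apply]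

end Groth.Agent.CohBase
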