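import Groth.Agent.CohBase.PushNat

/-!
# A functorial comparison of the cohomology of a sheaf and of its direct image
-/

universe u

open CategoryTheory CategoryTheory.Limits Opposite TopologicalSpace

namespace Groth.Agent.CohBase

variable {X Y : TopCat.{u}} (f : X ⟶ Y) [(pushS f).PreservesZeroMorphisms]
variable {B : Opens Y → Prop} (hB : ∀ (W : Opens Y) (y : Y), y ∈ W → ∃ V, B V ∧ y ∈ V ∧ V ≤ W)

/-- The defining property of the comparison, by recursion on the degree. -/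
def IsPushCmp : ∀ (n : ℕ) (F : AbSh X),
    (HU (⊤ : Opens X) F n →+ HU (⊤ : Opens Y) ((pushS f).obj F) n) → Prop
  | 0, F, Φ => Φ = (pushZero f F).toAddMonoidHom
  | n + 1, F, Φ => ∃ (ΦQ : _) (hS' : ((injSeq F).map (pushS f)).ShortExact),
      IsPushCmp n (injSeq F).X₃ ΦQ ∧
        ∀ x, Φ (hδ (injSeq_shortExact F) ⊤ n x) = hδ hS' ⊤ n (ΦQ x)

include hB in
theorem exists_isPushCmp {F : AbSh X} (hF : PushAcyclic f B F) (n : ℕ) :
    ∃ Φ, IsPushCmp f n F Φ ∧ Function.Bijective Φ := by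
  induction n generalizing F with
  | zero => exact ⟨_, rfl, (pushZero f F).bijective⟩
  | succ n ih =>
    have hS := injSeq_shortExact F
    have hS' := push_shortExact f hB hS hF
    let S := injSeq F
    let S' := S.map (pushS f)
    have hX2 : ∀ m, Subsingleton (HU (⊤ : Opens Y) S'.X₂ (m + 1)) := fun m => by
      change Subsingleton (HU (⊤ : Opens Y) ((pushS f).obj S.X₂) (m + 1))
      exact push_injective_acyclic f S.X₂ ⊤ m
    haveI := subsingleton_of_injective (⊤ : Opens X) S.X₂ n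
    haveI := hX2 n
    obtain ⟨ΦQ, hQ, hbQ⟩ := ih (hF.quot f)
    let φ₁ := hδ hS ⊤ n
    let φ₂ := (hδ hS' ⊤ n).comp ΦQ
    have h1 : Function.Surjective φ₁ := hδ_surjective hS ⊤ n
    have h2 : Function.Surjective φ₂ := (hδ_surjective hS' ⊤ n).comp hbQ.2
    have hk : ∀ x, φ₁ x = 0 ↔ φ₂ x = 0 := fun x => by
      cases n with
      | zero =>
        subst hQ
        refine (hδ_eq_zero_iff hS ⊤ 0 x).trans ?_
        refine Iff.trans ?_ (hδ_eq_zero_iff hS' ⊤ 0 _).symm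
        constructor
        · rintro ⟨y, rfl⟩
          exact ⟨pushZero f S.X₂ y, (pushZero_natural f S.g y).symm⟩
        · rintro ⟨y, hy⟩
          obtain ⟨z, rfl⟩ := (pushZero f S.X₂).surjective y
          exact ⟨z, (pushZero f S.X₃).injective ((pushZero_natural f S.g z).trans hy)⟩
      | succ m =>
        haveI := subsingleton_of_injective (⊤ : Opens X) S.X₂ m
        haveI := hX2 m
        refine (map_eq_zero_iff _ (hδ_bijective hS ⊤ (m + 1)).1).trans ?_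
        show x = 0 ↔ hδ hS' ⊤ (m + 1) (ΦQ x) = 0
        rw [map_eq_zero_iff _ (hδ_bijective hS' ⊤ (m + 1)).1]
        exact (map_eq_zero_iff ΦQ hbQ.1).symm
    obtain ⟨ψ, hψ⟩ := addMonoidHom_descend φ₁ h1 φ₂ fun x hx => (hk x).1 hx
    refine ⟨ψ, ⟨ΦQ, hS', hQ, hψ⟩, (injective_iff_map_eq_zero ψ).2 fun y hy => ?_, fun y => ?_⟩
    · obtain ⟨x, rfl⟩ := h1 y
      exact (hk x).2 ((hψ x).symm.trans hy)
    · obtain ⟨x, rfl⟩ := h2 y
      exact ⟨φ₁ x, hψ x⟩

theorem isPushCmp_natural : ∀ (n : ℕ) {F G : AbSh X} (φ : F ⟶ G)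
    (Φ : HU (⊤ : Opens X) F n →+ HU (⊤ : Opens Y) ((pushS f).obj F) n)
    (Ψ : HU (⊤ : Opens X) G n →+ HU (⊤ : Opens Y) ((pushS f).obj G) n),
    IsPushCmp f n F Φ → IsPushCmp f n G Ψ → ∀ x,
      Ψ (hmap ⊤ φ n x) = hmap ⊤ ((pushS f).map φ) n (Φ x)
  | 0, F, G, φ, Φ, Ψ, hΦ, hΨ, x => by
    subst hΦ hΨ
    exact pushZero_natural f φ x
  | n + 1, F, G, φ, Φ, Ψ, ⟨ΦQ, hSF, hQ, hΦ⟩, ⟨ΨQ, hSG, hQ', hΨ⟩, y => by
    have hS := injSeq_shortExact F
    have hT := injSeq_shortExact G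
    let g : Injective.under F ⟶ Injective.under G := Injective.factorThru (φ ≫ Injective.ι G) (Injective.ι F)
    have hg : Injective.ι F ≫ g = φ ≫ Injective.ι G := Injective.comp_factorThru _ _
    let θ : injSeq F ⟶ injSeq G :=
      ⟨φ, g, cokernel.map (Injective.ι F) (Injective.ι G) φ g hg, hg.symm, (cokernel.π_desc _ _ _).symm⟩
    haveI := subsingleton_of_injective (⊤ : Opens X) (injSeq F).X₂ n
    obtain ⟨x, rfl⟩ := hδ_surjective hS ⊤ n y
    rw [hΦ, show hmap ⊤ φ (n + 1) (hδ hS ⊤ n x) = hδ hT ⊤ n (hmap ⊤ θ.τ₃ n x) from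
      hδ_naturality hS hT θ ⊤ n x, hΨ, isPushCmp_natural n θ.τ₃ ΦQ ΨQ hQ hQ']
    exact (hδ_naturality hSF hSG ((pushS f).mapShortComplex.map θ) ⊤ n _).symm

include hB in
/-- Cohomology of direct images, naturally in the sheaf. -/
theorem exists_pushNatEquiv (n : ℕ) :
    ∃ e : ∀ (F : AbSh X), PushAcyclic f B F → (HU (⊤ : Opens X) F n ≃+ HU (⊤ : Opens Y) ((pushS f).obj F) n),
      ∀ (F G : AbSh X) (hF : PushAcyclic f B F) (hG : PushAcyclic f B G) (φ : F ⟶ G) (x : HU (⊤ : Opens X) F n),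
        e G hG (hmap ⊤ φ n x) = hmap ⊤ ((pushS f).map φ) n (e F hF x) := by
  choose Φ hΦ hb using fun (F : AbSh X) (hF : PushAcyclic f B F) => exists_isPushCmp f hB hF n
  exact ⟨fun F hF => AddEquiv.ofBijective (Φ F hF) (hb F hF), fun F G hF hG φ x =>
    isPushCmp_natural f n φ _ _ (hΦ F hF) (hΦ G hG) x⟩

end Groth.Agent.CohBase
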