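import Groth.Agent.CohBase.Natural

/-!
# A functorial comparison of Čech and sheaf cohomology
-/

universe u

open CategoryTheory CategoryTheory.Limits Opposite TopologicalSpace

namespace Groth.Agent.CohBase

variable {X : Type u} [TopologicalSpace X] {ι : Type u} (U : ι → Opens X)

/-- The defining property of the comparison, by recursion on the degree. -/
def IsCmp (hcov : ⊤ ≤ iSup U) :
    ∀ (p : ℕ) (F : AbSh X), (Zc U F.obj p →+ HU (⊤ : Opens X) F p) → Prop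
  | 0, F, Φ => Φ = (Φ0 U F hcov).toAddMonoidHom
  | p + 1, F, Φ => ∃ ΦQ, IsCmp hcov p (injSeq F).X₃ ΦQ ∧
      ∀ (z : Zc U F.obj (p + 1)) (e : CC U (injSeq F).X₂.obj p)
        (_ : ccMap U (injSeq F).f.hom (p + 1) z.1 = cdiff U (injSeq F).X₂.obj p e)
        (he : ccMap U (injSeq F).g.hom p e ∈ Zc U (injSeq F).X₃.obj p),
        Φ z = hδ (injSeq_shortExact F) ⊤ p (ΦQ ⟨_, he⟩)

/-- A surjective comparison with the expected kernel. -/
def IsGood {F : AbSh X} {p : ℕ} (Φ : Zc U F.obj p →+ HU (⊤ : Opens X) F p) : Prop :=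
  Function.Surjective Φ ∧ ∀ z, Φ z = 0 ↔ z.1 ∈ Bc U F.obj p

lemma isCmp_step (hcov : ⊤ ≤ iSup U) {F : AbSh X} (hF : Acyclic U F) (p : ℕ)
    (ΦQ : Zc U (injSeq F).X₃.obj p →+ HU (⊤ : Opens X) (injSeq F).X₃ p)
    (hΦs : Function.Surjective ΦQ) (hQ : IsCmp U hcov p (injSeq F).X₃ ΦQ)
    (hH : ∀ z, hδ (injSeq_shortExact F) ⊤ p (ΦQ z) = 0 ↔
      ∃ a, cdiff U (injSeq F).X₂.obj p a = 0 ∧ ccMap U (injSeq F).g.hom p a = z.1) :
    ∃ Φ, IsCmp U hcov (p + 1) F Φ ∧ IsGood U Φ := by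
  have hS := injSeq_shortExact F
  let S := injSeq F
  let M : AddSubgroup (CC U S.X₂.obj p) :=
    ((cdiff U S.X₃.obj p).comp (ccMap U S.g.hom p)).ker
  let toQ : M →+ Zc U S.X₃.obj p :=
    ((ccMap U S.g.hom p).comp M.subtype).codRestrict _ fun e => e.2
  have hfac : ∀ e : M, ∃ t, ccMap U S.f.hom (p + 1) t = cdiff U S.X₂.obj p e.1 := fun e =>
    ccMap_exact U hS _ (by rw [← cdiff_ccMap]; exact e.2)
  choose t ht using hfac
  have htc : ∀ e, cdiff U S.X₁.obj (p + 1) (t e) = 0 := fun e =>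
    ccMap_injective U hS _ (by rw [← cdiff_ccMap, ht, cdiff_cdiff, map_zero])
  let π : M →+ Zc U F.obj (p + 1) := AddMonoidHom.mk' (fun e => ⟨t e, htc e⟩) fun a b =>
    Subtype.ext (ccMap_injective U hS _ (by
      change ccMap U S.f.hom _ (t (a + b)) = ccMap U S.f.hom _ (t a + t b)
      rw [map_add, ht, ht, ht]
      exact map_add _ _ _))
  have hπ : Function.Surjective π := fun z => by
    obtain ⟨e, he⟩ := injective_cexact U S.X₂ p (ccMap U S.f.hom (p + 1) z.1) (by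
      rw [cdiff_ccMap, show cdiff U S.X₁.obj (p + 1) z.1 = 0 from z.2, map_zero])
    have hm : e ∈ M := by
      change cdiff U S.X₃.obj p (ccMap U S.g.hom p e) = 0
      rw [cdiff_ccMap, he, ccMap_comp U hS]
    exact ⟨⟨e, hm⟩, Subtype.ext (ccMap_injective U hS _ ((ht ⟨e, hm⟩).trans he))⟩
  haveI := subsingleton_of_injective (⊤ : Opens X) S.X₂ p
  let φ : M →+ HU (⊤ : Opens X) F (p + 1) := (hδ hS ⊤ p).comp (ΦQ.comp toQ)
  have htoQ : Function.Surjective toQ := fun z => by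
    obtain ⟨e, he⟩ := hF.surjective U z.1
    exact ⟨⟨e, show cdiff U S.X₃.obj p (ccMap U S.g.hom p e) = 0 by rw [he]; exact z.2⟩,
      Subtype.ext he⟩
  have hφs : Function.Surjective φ := (hδ_surjective hS ⊤ p).comp (hΦs.comp htoQ)
  have hker : ∀ e : M, φ e = 0 ↔ ∃ b, cdiff U S.X₁.obj p b = t e := by
    intro e
    refine (hH (toQ e)).trans ⟨fun ⟨a, ha, hga⟩ => ?_, fun ⟨b, hb⟩ => ?_⟩
    · change ccMap U S.g.hom p a = ccMap U S.g.hom p e.1 at hga
      obtain ⟨b, hb⟩ := ccMap_exact U hS (e.1 - a) (by rw [map_sub, hga, sub_self])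
      refine ⟨b, ccMap_injective U hS _ ?_⟩
      rw [← cdiff_ccMap, hb, map_sub, ha, sub_zero, ht]
    · refine ⟨e.1 - ccMap U S.f.hom p b, ?_, ?_⟩
      · rw [map_sub, cdiff_ccMap]
        erw [hb]
        rw [ht, sub_self]
      · rw [map_sub, ccMap_comp U hS, sub_zero]
        rfl
  obtain ⟨ψ, hψ⟩ := addMonoidHom_descend π hπ φ fun e he => (hker e).mpr
    ⟨0, by rw [map_zero]; exact (congrArg Subtype.val he).symm⟩
  refine ⟨ψ, ⟨ΦQ, hQ, fun z e hze he => ?_⟩, fun y => ?_, fun z => ?_⟩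
  · let e' : M := ⟨e, show cdiff U S.X₃.obj p (ccMap U S.g.hom p e) = 0 from he⟩
    rw [show z = π e' from Subtype.ext (ccMap_injective U hS _ (hze.trans (ht e').symm)), hψ]
    rfl
  · obtain ⟨e, rfl⟩ := hφs y
    exact ⟨π e, hψ e⟩
  · obtain ⟨e, rfl⟩ := hπ z
    rw [hψ]
    exact hker e

theorem exists_isCmp (hcov : ⊤ ≤ iSup U) {F : AbSh X} (hF : Acyclic U F) (p : ℕ) :
    ∃ Φ, IsCmp U hcov p F Φ ∧ IsGood U Φ := by
  induction p generalizing F with
  | zero =>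
    exact ⟨_, rfl, (Φ0 U F hcov).surjective, fun _ =>
      (map_eq_zero_iff _ (Φ0 U F hcov).injective).trans Subtype.coe_injective.eq_iff.symm⟩
  | succ p ih =>
    have hS := injSeq_shortExact F
    cases p with
    | zero =>
      refine isCmp_step U hcov hF 0 (Φ0 U _ hcov).toAddMonoidHom (Φ0 U _ hcov).surjective rfl
        (fun z => ?_)
      · obtain ⟨s, rfl⟩ := (eps_bijective U (injSeq F).X₃ hcov).2 z
        rw [AddEquiv.coe_toAddMonoidHom, Φ0_eps, hδ_eq_zero_iff]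
        constructor
        · rintro ⟨y, hy⟩
          refine ⟨aug U _ (fun _ => le_top) (H0Equiv ⊤ _ y), cdiff_aug _ _ _, ?_⟩
          have h := congrArg (H0Equiv ⊤ (injSeq F).X₃) hy
          rw [H0Equiv_hmap, AddEquiv.apply_symm_apply] at h
          funext i
          rw [← h]
          exact (res_map (injSeq F).g.hom _ _).symm
        · rintro ⟨a, ha, hga⟩
          obtain ⟨r, hr⟩ := aug_exact (injSeq F).X₂ (fun _ => le_top) hcov a ha
          refine ⟨(H0Equiv ⊤ _).symm r, ?_⟩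
          apply (H0Equiv ⊤ (injSeq F).X₃).injective
          rw [H0Equiv_hmap, AddEquiv.apply_symm_apply, AddEquiv.apply_symm_apply]
          refine aug_injective (U := U) (injSeq F).X₃ (fun _ => le_top) hcov ?_
          refine Eq.trans ?_ hga
          rw [← hr]
          funext i
          exact res_map (injSeq F).g.hom _ _
    | succ p =>
      obtain ⟨ΦQ, hQ, hΦs, hΦk⟩ := ih (hF.quot U)
      refine isCmp_step U hcov hF (p + 1) ΦQ hΦs hQ (fun z => ?_)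
      haveI := subsingleton_of_injective (⊤ : Opens X) (injSeq F).X₂ p
      haveI := subsingleton_of_injective (⊤ : Opens X) (injSeq F).X₂ (p + 1)
      rw [map_eq_zero_iff _ (hδ_bijective hS ⊤ (p + 1)).1, hΦk]
      constructor
      · rintro ⟨q, hq⟩
        obtain ⟨a, rfl⟩ := hF.surjective U q
        exact ⟨cdiff U _ p a, cdiff_cdiff _ _ _, by rw [← cdiff_ccMap]; exact hq⟩
      · rintro ⟨a, ha, hga⟩
        obtain ⟨a', rfl⟩ := injective_cexact U (injSeq F).X₂ p a ha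
        exact ⟨ccMap U _ p a', by rw [cdiff_ccMap]; exact hga⟩

/-- The comparison. -/
noncomputable def cmp (hcov : ⊤ ≤ iSup U) {F : AbSh X} (hF : Acyclic U F) (p : ℕ) :
    Zc U F.obj p →+ HU (⊤ : Opens X) F p :=
  (exists_isCmp U hcov hF p).choose

lemma cmp_surjective (hcov : ⊤ ≤ iSup U) {F : AbSh X} (hF : Acyclic U F) (p : ℕ) :
    Function.Surjective (cmp U hcov hF p) :=
  (exists_isCmp U hcov hF p).choose_spec.2.1

lemma cmp_eq_zero_iff (hcov : ⊤ ≤ iSup U) {F : AbSh X} (hF : Acyclic U F) {p : ℕ} (z : Zc U F.obj p) :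
    cmp U hcov hF p z = 0 ↔ z.1 ∈ Bc U F.obj p :=
  (exists_isCmp U hcov hF p).choose_spec.2.2 z

theorem isCmp_natural (hcov : ⊤ ≤ iSup U) : ∀ (p : ℕ) {F G : AbSh X} (f : F ⟶ G)
    (Φ : Zc U F.obj p →+ HU (⊤ : Opens X) F p) (Ψ : Zc U G.obj p →+ HU (⊤ : Opens X) G p),
    IsCmp U hcov p F Φ → IsCmp U hcov p G Ψ → ∀ (z : Zc U F.obj p) (z' : Zc U G.obj p),
      z'.1 = ccMap U f.hom p z.1 → Ψ z' = hmap (⊤ : Opens X) f p (Φ z)
  | 0, F, G, f, Φ, Ψ, hΦ, hΨ, z, z', hz' => by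
    subst hΦ hΨ
    obtain ⟨s, rfl⟩ := (eps_bijective U F hcov).2 z
    obtain rfl : z' = eps U G (f.hom.app (op ⊤) s) := Subtype.ext (hz'.trans (eps_natural U f s))
    simp only [AddEquiv.coe_toAddMonoidHom, Φ0_eps]
    apply (H0Equiv ⊤ G).injective
    rw [H0Equiv_hmap, AddEquiv.apply_symm_apply, AddEquiv.apply_symm_apply]
  | p + 1, F, G, f, Φ, Ψ, ⟨ΦQ, hQ, hΦ⟩, ⟨ΨQ, hQ', hΨ⟩, z, z', hz' => by
    have hS := injSeq_shortExact F
    have hS' := injSeq_shortExact G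
    let g : Injective.under F ⟶ Injective.under G := Injective.factorThru (f ≫ Injective.ι G) (Injective.ι F)
    have hg : Injective.ι F ≫ g = f ≫ Injective.ι G := Injective.comp_factorThru _ _
    let φ : injSeq F ⟶ injSeq G :=
      ⟨f, g, cokernel.map (Injective.ι F) (Injective.ι G) f g hg, hg.symm, (cokernel.π_desc _ _ _).symm⟩
    have h12 : φ.τ₁ ≫ (injSeq G).f = (injSeq F).f ≫ φ.τ₂ := φ.comm₁₂
    have h23 : φ.τ₂ ≫ (injSeq G).g = (injSeq F).g ≫ φ.τ₃ := φ.comm₂₃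
    obtain ⟨e, he⟩ := injective_cexact U (injSeq F).X₂ p (ccMap U (injSeq F).f.hom (p + 1) z.1) (by
      rw [cdiff_ccMap, show cdiff U (injSeq F).X₁.obj (p + 1) z.1 = 0 from z.2, map_zero])
    have heZ : ccMap U (injSeq F).g.hom p e ∈ Zc U (injSeq F).X₃.obj p := by
      show cdiff U _ p (ccMap U (injSeq F).g.hom p e) = 0
      rw [cdiff_ccMap, he, ccMap_comp U hS]
    have hgg : ccMap U (injSeq G).g.hom p (ccMap U φ.τ₂.hom p e) =
        ccMap U φ.τ₃.hom p (ccMap U (injSeq F).g.hom p e) := by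
      rw [ccMap_ccMap, ccMap_ccMap]
      exact congrArg (fun k => ccMap U k p e) (congrArg (fun k => k.hom) h23)
    have heZ' : ccMap U (injSeq G).g.hom p (ccMap U φ.τ₂.hom p e) ∈ Zc U (injSeq G).X₃.obj p := by
      rw [hgg]
      exact ccMap_mem_Zc U φ.τ₃.hom ⟨_, heZ⟩
    rw [hΦ z e he.symm heZ, hΨ z' (ccMap U φ.τ₂.hom p e) (by
      rw [hz', cdiff_ccMap, he]
      show ccMap U (injSeq G).f.hom _ (ccMap U φ.τ₁.hom _ z.1) = _
      rw [ccMap_ccMap, ccMap_ccMap]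
      exact congrArg (fun k => ccMap U k (p + 1) z.1) (congrArg (fun k => k.hom) h12)) heZ',
      isCmp_natural hcov p φ.τ₃ ΦQ ΨQ hQ hQ' ⟨_, heZ⟩ ⟨_, heZ'⟩ hgg]
    exact (hδ_naturality hS hS' φ ⊤ p (ΦQ ⟨_, heZ⟩)).symm

/-- The comparison is natural. -/
theorem cmp_natural (hcov : ⊤ ≤ iSup U) {F G : AbSh X} (hF : Acyclic U F) (hG : Acyclic U G) {p : ℕ}
    (f : F ⟶ G) (z : Zc U F.obj p) (z' : Zc U G.obj p) (h : z'.1 = ccMap U f.hom p z.1) :
    cmp U hcov hG p z' = hmap (⊤ : Opens X) f p (cmp U hcov hF p z) :=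
  isCmp_natural U hcov p f _ _ (exists_isCmp U hcov hF p).choose_spec.1
    (exists_isCmp U hcov hG p).choose_spec.1 z z' h

end Groth.Agent.CohBase
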