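import Mathlib.CategoryTheory.Sites.SheafCohomology.Basic
import Mathlib.CategoryTheory.Abelian.GrothendieckCategory.HasExt
import Mathlib.CategoryTheory.Abelian.GrothendieckCategory.EnoughInjectives
import Mathlib.CategoryTheory.Abelian.GrothendieckAxioms.Sheaf
import Mathlib.Algebra.Category.Grp.AB
import Mathlib.Algebra.Category.Grp.Ulift
import Mathlib.Topology.Sheaves.Sheaf
import Mathlib.GroupTheory.FreeAbelianGroup

/-!
# Cohomology of abelian sheaves on opens of a topological space

`freeAb U` is the free abelian sheaf on an open `U`, `HU U F n = Ext (freeAb U) F n` is the cohomology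
of `F` on `U`, with the long exact sequence, and the comparison with `Sheaf.H` for `U = ⊤`.
-/

universe u

open CategoryTheory CategoryTheory.Limits Opposite TopologicalSpace Abelian

namespace Groth.Agent.CohBase

variable {X : Type u} [TopologicalSpace X]

/-- Abelian sheaves on a space. -/
abbrev AbSh (X : Type u) [TopologicalSpace X] : Type (u + 1) :=
  Sheaf (Opens.grothendieckTopology X) AddCommGrpCat.{u}

instance : IsGrothendieckAbelian.{u} (AbSh X) :=
  Sheaf.isGrothendieckAbelian_of_essentiallySmall _ _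

/-- The free abelian presheaf on an open. -/
noncomputable abbrev freePre (U : Opens X) : (Opens X)ᵒᵖ ⥤ AddCommGrpCat.{u} :=
  yoneda.obj U ⋙ AddCommGrpCat.free

/-- The free abelian sheaf on an open. -/
noncomputable abbrev freeAb (U : Opens X) : AbSh X :=
  (presheafToSheaf _ _).obj (freePre U)

/-- The map of presheaves defined by a section. -/
noncomputable def preHomOfSec {U : Opens X} (P : (Opens X)ᵒᵖ ⥤ AddCommGrpCat.{u})
    (s : P.obj (op U)) : freePre U ⟶ P where
  app V := AddCommGrpCat.ofHom (FreeAbelianGroup.lift fun f : V.unop ⟶ U => P.map f.op s)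
  naturality V W g := by
    refine AddCommGrpCat.hom_ext (FreeAbelianGroup.lift_ext _ _ fun f => ?_)
    change FreeAbelianGroup.lift _ (FreeAbelianGroup.map _ (FreeAbelianGroup.of f)) =
      P.map g (FreeAbelianGroup.lift _ (FreeAbelianGroup.of f))
    simp only [FreeAbelianGroup.map_of_apply, FreeAbelianGroup.lift_apply_of]
    rw [← ConcreteCategory.comp_apply, ← Functor.map_comp]
    rfl

lemma preHomOfSec_apply {U : Opens X} (P : (Opens X)ᵒᵖ ⥤ AddCommGrpCat.{u})
    (s : P.obj (op U)) : (preHomOfSec P s).app (op U) (FreeAbelianGroup.of (𝟙 U)) = s := by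
  change FreeAbelianGroup.lift _ (FreeAbelianGroup.of (𝟙 U)) = s
  rw [FreeAbelianGroup.lift_apply_of]
  simp

lemma freePre_hom_ext {U : Opens X} {P : (Opens X)ᵒᵖ ⥤ AddCommGrpCat.{u}} {φ ψ : freePre U ⟶ P}
    (h : φ.app (op U) (FreeAbelianGroup.of (𝟙 U)) = ψ.app (op U) (FreeAbelianGroup.of (𝟙 U))) :
    φ = ψ := by
  ext V : 2
  refine AddCommGrpCat.hom_ext (FreeAbelianGroup.lift_ext _ _ fun f => ?_)
  have e : (freePre U).map (f : V.unop ⟶ U).op (FreeAbelianGroup.of (𝟙 U)) =
      FreeAbelianGroup.of f := by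
    change FreeAbelianGroup.map _ (FreeAbelianGroup.of (𝟙 U)) = _
    rw [FreeAbelianGroup.map_of_apply]
    rfl
  rw [← e]
  change ((freePre U).map _ ≫ φ.app V) _ = ((freePre U).map _ ≫ ψ.app V) _
  rw [φ.naturality, ψ.naturality]
  change P.map _ (φ.app (op U) _) = P.map _ (ψ.app (op U) _)
  rw [h]

/-- Sections of a presheaf as maps from the free presheaf. -/
noncomputable def preHomEquiv (U : Opens X) (P : (Opens X)ᵒᵖ ⥤ AddCommGrpCat.{u}) :
    (freePre U ⟶ P) ≃+ P.obj (op U) where
  toFun φ := φ.app (op U) (FreeAbelianGroup.of (𝟙 U))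
  invFun s := preHomOfSec P s
  left_inv φ := freePre_hom_ext (preHomOfSec_apply P _)
  right_inv s := preHomOfSec_apply P s
  map_add' φ ψ := rfl

/-- `Hom(freeAb U, F) ≃+ F(U)`. -/
noncomputable def secEquiv (U : Opens X) (F : AbSh X) : (freeAb U ⟶ F) ≃+ F.obj.obj (op U) :=
  ((sheafificationAdjunction (Opens.grothendieckTopology X) AddCommGrpCat.{u}).homAddEquiv
    (freePre U) F).trans (preHomEquiv U F.obj)

lemma secEquiv_apply (U : Opens X) {F : AbSh X} (φ : freeAb U ⟶ F) :
    secEquiv U F φ = φ.hom.app (op U) ((toSheafify (Opens.grothendieckTopology X) (freePre U)).app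
      (op U) (FreeAbelianGroup.of (𝟙 U))) := by
  change (((sheafificationAdjunction (Opens.grothendieckTopology X) AddCommGrpCat.{u}).homEquiv
    (freePre U) F) φ).app (op U) _ = _
  rw [Adjunction.homEquiv_unit]
  rfl

lemma secEquiv_comp (U : Opens X) {F G : AbSh X} (φ : freeAb U ⟶ F) (f : F ⟶ G) :
    secEquiv U G (φ ≫ f) = f.hom.app (op U) (secEquiv U F φ) := by
  rw [secEquiv_apply, secEquiv_apply]
  rfl

lemma secEquiv_symm_comp (U : Opens X) {F G : AbSh X} (s : F.obj.obj (op U)) (f : F ⟶ G) :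
    (secEquiv U F).symm s ≫ f = (secEquiv U G).symm (f.hom.app (op U) s) := by
  apply (secEquiv U G).injective
  rw [secEquiv_comp, AddEquiv.apply_symm_apply, AddEquiv.apply_symm_apply]

/-- Cohomology of an abelian sheaf on an open. -/
noncomputable abbrev HU (U : Opens X) (F : AbSh X) (n : ℕ) : Type u := Ext.{u} (freeAb U) F n

/-- Functoriality. -/
noncomputable def hmap (U : Opens X) {F G : AbSh X} (f : F ⟶ G) (n : ℕ) : HU U F n →+ HU U G n :=
  (Ext.mk₀ f).postcomp (freeAb U) (add_zero n)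

lemma hmap_apply (U : Opens X) {F G : AbSh X} (f : F ⟶ G) {n : ℕ} (x : HU U F n) :
    hmap U f n x = x.comp (Ext.mk₀ f) (add_zero n) := rfl

/-- Sections as degree zero classes. -/
noncomputable def H0Equiv (U : Opens X) (F : AbSh X) : HU U F 0 ≃+ F.obj.obj (op U) :=
  Ext.addEquiv₀.trans (secEquiv U F)

lemma H0Equiv_hmap (U : Opens X) {F G : AbSh X} (f : F ⟶ G) (x : HU U F 0) :
    H0Equiv U G (hmap U f 0 x) = f.hom.app (op U) (H0Equiv U F x) := by
  change secEquiv U G (Ext.addEquiv₀ _) = f.hom.app _ (secEquiv U F (Ext.addEquiv₀ x))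
  rw [← secEquiv_comp]
  congr 1
  apply Ext.addEquiv₀.symm.injective
  rw [AddEquiv.symm_apply_apply, hmap_apply]
  conv_lhs => rw [← Ext.mk₀_addEquiv₀_apply x, Ext.mk₀_comp_mk₀]
  rfl

lemma subsingleton_of_injective (U : Opens X) (I : AbSh X) [Injective I] (n : ℕ) :
    Subsingleton (HU U I (n + 1)) :=
  Ext.subsingleton_of_injective _ _ n

/-- Exactness of sections on the left. -/
lemma sections_exact {S : ShortComplex (AbSh X)} (hS : S.ShortExact) (U : Opens X)
    (s : S.X₂.obj.obj (op U)) (h : S.g.hom.app (op U) s = 0) :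
    ∃ t, S.f.hom.app (op U) t = s := by
  haveI := hS.mono_f
  have h0 : (secEquiv U S.X₂).symm s ≫ S.g = 0 := by
    rw [secEquiv_symm_comp, h, map_zero]
  obtain ⟨t, ht⟩ := KernelFork.IsLimit.lift' hS.exact.fIsKernel _ h0
  refine ⟨secEquiv U S.X₁ t, ?_⟩
  rw [← secEquiv_comp]
  change secEquiv U _ (t ≫ Fork.ι (KernelFork.ofι S.f S.zero)) = s
  rw [ht, AddEquiv.apply_symm_apply]

lemma sections_injective {F G : AbSh X} (f : F ⟶ G) [Mono f] (U : Opens X) :
    Function.Injective (f.hom.app (op U)) := by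
  intro a b h
  apply (secEquiv U F).symm.injective
  rw [← cancel_mono f, secEquiv_symm_comp, secEquiv_symm_comp, h]

/-- `H¹(U, F) = 0` makes sections of the quotient lift. -/
lemma sections_surjective {S : ShortComplex (AbSh X)} (hS : S.ShortExact) (U : Opens X)
    [Subsingleton (HU U S.X₁ 1)] : Function.Surjective (S.g.hom.app (op U)) := by
  intro q
  obtain ⟨x₂, hx₂⟩ := Ext.covariant_sequence_exact₃ (freeAb U) hS ((H0Equiv U S.X₃).symm q)
    (zero_add 1) (Subsingleton.elim _ _)
  refine ⟨H0Equiv U S.X₂ x₂, ?_⟩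
  rw [← H0Equiv_hmap, hmap_apply, hx₂, AddEquiv.apply_symm_apply]

/-- Conversely, if the middle term has no `H¹` and sections lift, then `H¹(U, F) = 0`. -/
lemma subsingleton_one_of_surjective {S : ShortComplex (AbSh X)} (hS : S.ShortExact) (U : Opens X)
    [Subsingleton (HU U S.X₂ 1)] (h : Function.Surjective (S.g.hom.app (op U))) :
    Subsingleton (HU U S.X₁ 1) := by
  refine subsingleton_of_forall_eq 0 fun x => ?_
  obtain ⟨x₃, rfl⟩ := Ext.covariant_sequence_exact₁ (freeAb U) hS x (Subsingleton.elim _ _)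
    (zero_add 1)
  obtain ⟨s, hs⟩ := h (H0Equiv U S.X₃ x₃)
  have e : x₃ = hmap U S.g 0 ((H0Equiv U S.X₂).symm s) := by
    apply (H0Equiv U S.X₃).injective
    rw [H0Equiv_hmap, AddEquiv.apply_symm_apply, hs]
  rw [e, hmap_apply, Ext.comp_assoc_of_second_deg_zero]
  simp [ShortComplex.ShortExact.comp_extClass]

/-- Dimension shifting. -/
lemma subsingleton_shift {S : ShortComplex (AbSh X)} (hS : S.ShortExact) (U : Opens X) (n : ℕ)
    [Subsingleton (HU U S.X₂ (n + 1))] [Subsingleton (HU U S.X₃ n)] :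
    Subsingleton (HU U S.X₁ (n + 1)) := by
  refine subsingleton_of_forall_eq 0 fun x => ?_
  obtain ⟨x₃, rfl⟩ := Ext.covariant_sequence_exact₁ (freeAb U) hS x (Subsingleton.elim _ _) rfl
  rw [Subsingleton.elim x₃ 0, Ext.zero_comp]

/-- Dimension shifting in the other direction. -/
lemma subsingleton_quot {S : ShortComplex (AbSh X)} (hS : S.ShortExact) (U : Opens X) (n : ℕ)
    [Subsingleton (HU U S.X₂ n)] [Subsingleton (HU U S.X₁ (n + 1))] :
    Subsingleton (HU U S.X₃ n) := by
  refine subsingleton_of_forall_eq 0 fun x => ?_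
  obtain ⟨x₂, rfl⟩ := Ext.covariant_sequence_exact₃ (freeAb U) hS x rfl (Subsingleton.elim _ _)
  rw [Subsingleton.elim x₂ 0, Ext.zero_comp]

/-- Connecting map. -/
noncomputable def hδ {S : ShortComplex (AbSh X)} (hS : S.ShortExact) (U : Opens X) (n : ℕ) :
    HU U S.X₃ n →+ HU U S.X₁ (n + 1) :=
  hS.extClass.postcomp (freeAb U) rfl

lemma hδ_surjective {S : ShortComplex (AbSh X)} (hS : S.ShortExact) (U : Opens X) (n : ℕ)
    [Subsingleton (HU U S.X₂ (n + 1))] : Function.Surjective (hδ hS U n) := by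
  intro x
  obtain ⟨x₃, rfl⟩ := Ext.covariant_sequence_exact₁ (freeAb U) hS x (Subsingleton.elim _ _) rfl
  exact ⟨x₃, rfl⟩

lemma hδ_eq_zero_iff {S : ShortComplex (AbSh X)} (hS : S.ShortExact) (U : Opens X) (n : ℕ)
    (x : HU U S.X₃ n) : hδ hS U n x = 0 ↔ ∃ y, hmap U S.g n y = x := by
  constructor
  · intro h
    exact Ext.covariant_sequence_exact₃ (freeAb U) hS x rfl h
  · rintro ⟨y, rfl⟩
    change (y.comp (Ext.mk₀ S.g) (add_zero n)).comp hS.extClass rfl = 0
    rw [Ext.comp_assoc_of_second_deg_zero]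
    simp [ShortComplex.ShortExact.comp_extClass]

lemma hδ_bijective {S : ShortComplex (AbSh X)} (hS : S.ShortExact) (U : Opens X) (n : ℕ)
    [Subsingleton (HU U S.X₂ n)] [Subsingleton (HU U S.X₂ (n + 1))] :
    Function.Bijective (hδ hS U n) := by
  refine ⟨?_, hδ_surjective hS U n⟩
  rw [injective_iff_map_eq_zero]
  intro x hx
  obtain ⟨y, rfl⟩ := (hδ_eq_zero_iff hS U n x).mp hx
  rw [Subsingleton.elim y 0, map_zero]

/-- The standard embedding into an injective. -/
noncomputable abbrev injSeq (F : AbSh X) : ShortComplex (AbSh X) :=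
  ShortComplex.mk (Injective.ι F) (cokernel.π (Injective.ι F)) (cokernel.condition _)

lemma injSeq_shortExact (F : AbSh X) : (injSeq F).ShortExact :=
  ShortComplex.ShortExact.mk' (ShortComplex.exact_of_g_is_cokernel _ (cokernelIsCokernel _))
    inferInstance inferInstance

instance (F : AbSh X) : Injective (injSeq F).X₂ :=
  inferInstanceAs (Injective (Injective.under F))

/-- The constant sheaf `ℤ` is the free sheaf on the whole space. -/
noncomputable def constPreIso :
    (Functor.const (Opens X)ᵒᵖ).obj (AddCommGrpCat.of (ULift.{u} ℤ)) ≅ freePre (⊤ : Opens X) :=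
  NatIso.ofComponents (fun V =>
    haveI : Unique (V.unop ⟶ (⊤ : Opens X)) :=
      { default := homOfLE le_top, uniq := fun _ => Subsingleton.elim _ _ }
    AddEquiv.toAddCommGrpIso (AddEquiv.ulift.trans
      (FreeAbelianGroup.uniqueEquiv (V.unop ⟶ (⊤ : Opens X))).symm))
    (fun {V W} g => by
      refine AddCommGrpCat.hom_ext (AddMonoidHom.ext fun z => ?_)
      obtain ⟨z⟩ := z
      change _ = FreeAbelianGroup.map _ _
      have e : ∀ (V : (Opens X)ᵒᵖ) (i : Unique (V.unop ⟶ (⊤ : Opens X))) (z : ℤ),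
          (@FreeAbelianGroup.uniqueEquiv _ i).symm z =
            z • FreeAbelianGroup.of (homOfLE le_top : V.unop ⟶ (⊤ : Opens X)) := by
        intro V i z
        change z • FreeAbelianGroup.of (@default _ i.toInhabited) = _
        congr 2
      change (@FreeAbelianGroup.uniqueEquiv _
          { default := homOfLE le_top, uniq := fun _ => Subsingleton.elim _ _ }).symm z =
        FreeAbelianGroup.map _ ((@FreeAbelianGroup.uniqueEquiv _
          { default := homOfLE le_top, uniq := fun _ => Subsingleton.elim _ _ }).symm z)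
      rw [e, e, map_zsmul, FreeAbelianGroup.map_of_apply]
      congr 2)

/-- The constant sheaf `ℤ` is the free sheaf on the whole space. -/
noncomputable def constIso :
    (constantSheaf (Opens.grothendieckTopology X) AddCommGrpCat.{u}).obj
      (AddCommGrpCat.of (ULift.{u} ℤ)) ≅ freeAb (⊤ : Opens X) :=
  (presheafToSheaf _ _).mapIso constPreIso

/-- Precomposition with an isomorphism. -/
noncomputable def extIsoLeft {C : Type*} [Category C] [Abelian C] [HasExt.{u} C] {A B : C}
    (e : A ≅ B) (Y : C) (n : ℕ) : Ext.{u} A Y n ≃+ Ext.{u} B Y n where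
  toFun x := (Ext.mk₀ e.inv).comp x (zero_add n)
  invFun x := (Ext.mk₀ e.hom).comp x (zero_add n)
  left_inv x := by simp
  right_inv x := by simp
  map_add' x y := by simp

lemma extIsoLeft_apply {C : Type*} [Category C] [Abelian C] [HasExt.{u} C] {A B : C}
    (e : A ≅ B) (Y : C) (n : ℕ) (x : Ext.{u} A Y n) :
    extIsoLeft e Y n x = (Ext.mk₀ e.inv).comp x (zero_add n) := rfl

/-- Comparison with `Sheaf.H`. -/
noncomputable def HEquiv (F : AbSh X) (n : ℕ) : Sheaf.H.{u} F n ≃+ HU (⊤ : Opens X) F n :=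
  extIsoLeft constIso F n

lemma HEquiv_map {F G : AbSh X} (f : F ⟶ G) (n : ℕ) (x : Sheaf.H.{u} F n) :
    HEquiv G n (Sheaf.H.map f n x) = hmap ⊤ f n (HEquiv F n x) := by
  rw [HEquiv, HEquiv, extIsoLeft_apply, extIsoLeft_apply, hmap_apply, Sheaf.H.map_apply,
    Ext.comp_assoc_of_third_deg_zero]

end Groth.Agent.CohBase
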