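import Groth.Agent.CohBase.Injective
import Mathlib.CategoryTheory.Sites.LocallyBijective
import Mathlib.CategoryTheory.Sites.EpiMono

/-!
# Cartan's criterion

Sheaves whose Čech complexes are exact for enough coverings of a basis have no higher cohomology
on the basis.
-/

universe u

open CategoryTheory CategoryTheory.Limits Opposite TopologicalSpace

namespace Groth.Agent.CohBase

variable {X : Type u} [TopologicalSpace X]

section

variable {ι : Type u} {U : ι → Opens X}

lemma cdiff_cdiff (P : (Opens X)ᵒᵖ ⥤ AddCommGrpCat.{u}) (n : ℕ) (c : CC U P n) :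
    cdiff U P (n + 1) (cdiff U P n c) = 0 := by
  obtain ⟨x, rfl⟩ := cIso_surjective U P n c
  rw [← cIso_d, ← cIso_d]
  have h := congr_arg (fun φ : (cK U P).X n ⟶ (cK U P).X (n + 2) => φ x)
    ((cK U P).d_comp_d n (n + 1) (n + 2))
  exact (congr_arg (cIso U P (n + 2)).hom h).trans (map_zero _)

/-- Augmentation. -/
noncomputable def aug (U : ι → Opens X) (P : (Opens X)ᵒᵖ ⥤ AddCommGrpCat.{u}) {V : Opens X}
    (hle : ∀ a, U a ≤ V) : P.obj (op V) →+ CC U P 0 :=
  Pi.addMonoidHom fun i => res P ((inter_le U i 0).trans (hle _))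

lemma cdiff_zero_apply (P : (Opens X)ᵒᵖ ⥤ AddCommGrpCat.{u}) (c : CC U P 0) (i : Fin 2 → ι) :
    cdiff U P 0 c i = res P (inter_comp_le U i (0 : Fin 2).succAbove) (c (i ∘ (0 : Fin 2).succAbove)) -
      res P (inter_comp_le U i (1 : Fin 2).succAbove) (c (i ∘ (1 : Fin 2).succAbove)) := by
  rw [cdiff_apply, Fin.sum_univ_two]
  simp [sub_eq_add_neg]

lemma cc_congr (P : (Opens X)ᵒᵖ ⥤ AddCommGrpCat.{u}) {n : ℕ} (c : CC U P n) {W : Opens X}
    {i i' : Fin (n + 1) → ι} (e : i = i') (h : W ≤ inter U i) (h' : W ≤ inter U i') :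
    res P h (c i) = res P h' (c i') := by
  subst e; rfl

lemma cdiff_aug (P : (Opens X)ᵒᵖ ⥤ AddCommGrpCat.{u}) {V : Opens X} (hle : ∀ a, U a ≤ V)
    (s : P.obj (op V)) : cdiff U P 0 (aug U P hle s) = 0 := by
  ext i
  rw [cdiff_zero_apply]
  change res P _ (res P _ s) - res P _ (res P _ s) = 0
  rw [res_res, res_res, sub_self]

lemma inter_const (a : ι) : U a = inter U (fun _ : Fin 1 => a) :=
  le_antisymm (le_iInf fun _ => le_rfl) (inter_le U _ 0)

/-- A `0`-cocycle of a sheaf glues. -/
lemma aug_exact (F : AbSh X) {V : Opens X} (hle : ∀ a, U a ≤ V) (hcov : V ≤ iSup U)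
    (c : CC U F.obj 0) (hc : cdiff U F.obj 0 c = 0) : ∃ s, aug U F.obj hle s = c := by
  obtain ⟨s, hs⟩ := sheaf_glue F hle hcov
    (fun a => res F.obj (inter_const a).le (c fun _ => a)) (fun a b => by
      have h := congrFun hc ![b, a]
      rw [cdiff_zero_apply, Pi.zero_apply, sub_eq_zero] at h
      have hW : U a ⊓ U b ≤ inter U ![b, a] := le_iInf fun t => by
        fin_cases t
        · exact inf_le_right
        · exact inf_le_left
      have h' := congrArg (res F.obj hW) h
      simp only [res_res] at h' ⊢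
      exact ((cc_congr F.obj c (by ext t; fin_cases t; rfl) _ _).trans h').trans
        (cc_congr F.obj c (by ext t; fin_cases t; rfl) _ _))
  refine ⟨s, funext fun i => ?_⟩
  change res F.obj _ s = c i
  rw [← res_res F.obj (hle (i 0)) (inter_le U i 0), hs, res_res]
  exact (cc_congr F.obj c (by ext t; fin_cases t; rfl) _ le_rfl).trans (res_self _ _ _)

lemma aug_injective (F : AbSh X) {V : Opens X} (hle : ∀ a, U a ≤ V) (hcov : V ≤ iSup U) :
    Function.Injective (aug U F.obj hle) := by
  intro s t h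
  refine sheaf_ext F hle hcov fun a => ?_
  have := congrArg (res F.obj (inter_const (U := U) a).le) (congrFun h fun _ => a)
  change res F.obj _ (res F.obj _ s) = res F.obj _ (res F.obj _ t) at this
  rw [res_res, res_res] at this
  exact this

end

variable {S : ShortComplex (AbSh X)}

section

variable {ι : Type u} (U : ι → Opens X)

lemma ccMap_injective (hS : S.ShortExact) (n : ℕ) :
    Function.Injective (ccMap U S.f.hom n) := by
  haveI := hS.mono_f
  intro a b h
  funext i
  exact sections_injective S.f _ (congrFun h i)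

lemma ccMap_exact (hS : S.ShortExact) {n : ℕ} (c : CC U S.X₂.obj n)
    (h : ccMap U S.g.hom n c = 0) : ∃ t, ccMap U S.f.hom n t = c := by
  choose t ht using fun i => sections_exact hS _ (c i) (congrFun h i)
  exact ⟨t, funext ht⟩

lemma ccMap_comp (hS : S.ShortExact) {n : ℕ} (t : CC U S.X₁.obj n) :
    ccMap U S.g.hom n (ccMap U S.f.hom n t) = 0 := by
  funext i
  exact congr_arg (fun φ : S.X₁ ⟶ S.X₃ => φ.hom.app _ (t i)) S.zero

end

/-- Surjectivity on sections from local lifts and the vanishing of Čech `H¹`. -/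
lemma sections_surjective_of_cexact (hS : S.ShortExact) (V : Opens X)
    (h : ∀ {κ : Type u} (W : κ → Opens X), (∀ k, W k ≤ V) → V ≤ iSup W →
      ∃ (ι : Type u) (U : ι → Opens X), (∀ a, ∃ k, U a ≤ W k) ∧ V ≤ iSup U ∧
        CExact U S.X₁.obj 0) :
    Function.Surjective (S.g.hom.app (op V)) := by
  intro q
  haveI := hS.epi_g
  haveI hloc : Sheaf.IsLocallySurjective S.g :=
    (Sheaf.isLocallySurjective_iff_epi' AddCommGrpCat.{u} S.g).mpr inferInstance
  have hcov : ∀ x : ↥V, ∃ (W : Opens X) (hW : W ≤ V), x.1 ∈ W ∧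
      ∃ s, S.g.hom.app (op W) s = res S.X₃.obj hW q := by
    intro x
    obtain ⟨W, f, ⟨s, hs⟩, hx⟩ := Presheaf.imageSieve_mem
      (Opens.grothendieckTopology X) S.g.hom q x.1 x.2
    exact ⟨W, f.le, hx, s, hs⟩
  choose W hWV hxW s hs using hcov
  obtain ⟨ι, U, hU, hcovU, hex⟩ := h W hWV fun x hx => Opens.mem_iSup.mpr ⟨⟨x, hx⟩, hxW _⟩
  choose k hk using hU
  have hle : ∀ a, U a ≤ V := fun a => (hk a).trans (hWV _)
  let e : CC U S.X₂.obj 0 := fun i => res _ ((inter_le U i 0).trans (hk (i 0))) (s (k (i 0)))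
  have hge : ccMap U S.g.hom 0 e = aug U S.X₃.obj hle q := by
    funext i
    change S.g.hom.app _ (res _ _ _) = res _ _ q
    rw [← res_map, hs, res_res]
  obtain ⟨t, ht⟩ := ccMap_exact U hS (cdiff U S.X₂.obj 0 e) (by
    rw [← cdiff_ccMap, hge, cdiff_aug])
  obtain ⟨b, hb⟩ := hex t (ccMap_injective U hS _ (by
    rw [← cdiff_ccMap, ht, cdiff_cdiff, map_zero]))
  obtain ⟨s', hs'⟩ := aug_exact S.X₂ hle hcovU (e - ccMap U S.f.hom 0 b) (by
    rw [map_sub, cdiff_ccMap, hb, ht, sub_self])
  refine ⟨s', aug_injective S.X₃ hle hcovU ?_⟩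
  rw [← hge]
  have := congrArg (ccMap U S.g.hom 0) hs'
  rw [map_sub, ccMap_comp U hS, sub_zero] at this
  rw [← this]
  funext i
  exact res_map S.g.hom _ _

/-- Data for Cartan's criterion: a basis and a class of coverings. -/
structure CartanSetup (X : Type u) [TopologicalSpace X] where
  /-- The basis. -/
  B : Opens X → Prop
  /-- The coverings. -/
  Cov : ∀ {ι : Type u}, (ι → Opens X) → Prop
  inf : ∀ {V W}, B V → B W → B (V ⊓ W)
  mem : ∀ {ι : Type u} {U : ι → Opens X}, Cov U → ∀ a, B (U a)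
  refine_cov : ∀ {V : Opens X}, B V → ∀ {κ : Type u} (W : κ → Opens X), (∀ k, W k ≤ V) → V ≤ iSup W →
    ∃ (ι : Type u) (U : ι → Opens X), Cov U ∧ (∀ a, ∃ k, U a ≤ W k) ∧ V ≤ iSup U

namespace CartanSetup

variable (C : CartanSetup X)

/-- The class of sheaves with exact Čech complexes. -/
def Good (F : AbSh X) : Prop :=
  ∀ (ι : Type u) (U : ι → Opens X), C.Cov U → ∀ n, CExact U F.obj n

lemma inter_mem {ι : Type u} {U : ι → Opens X} (hU : C.Cov U) :
    ∀ {n : ℕ} (i : Fin (n + 1) → ι), C.B (inter U i)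
  | 0, i => by
    have : inter U i = U (i 0) := by
      rw [inter_const (U := U) (i 0)]
      congr 1
      ext t; fin_cases t; rfl
    rw [this]
    exact C.mem hU _
  | n + 1, i => by
    have : inter U i = U (i 0) ⊓ inter U (i ∘ Fin.succ) := by
      refine le_antisymm (le_inf (inter_le U i 0) (inter_comp_le U i _)) (le_iInf fun a => ?_)
      cases a using Fin.cases with
      | zero => exact inf_le_left
      | succ a => exact inf_le_right.trans (inter_le U (i ∘ Fin.succ) a)
    rw [this]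
    exact C.inf (C.mem hU _) (inter_mem hU _)

lemma good_surjective {F : AbSh X} (hF : C.Good F) (hS : S.ShortExact) (e : S.X₁ = F)
    {V : Opens X} (hV : C.B V) : Function.Surjective (S.g.hom.app (op V)) := by
  subst e
  refine sections_surjective_of_cexact hS V fun W hle hcov => ?_
  obtain ⟨ι, U, hU, hr, hc⟩ := C.refine_cov hV W hle hcov
  exact ⟨ι, U, hr, hc, hF ι U hU 0⟩

lemma good_quot {F : AbSh X} (hF : C.Good F) : C.Good (injSeq F).X₃ := by
  intro ι U hU n c hc
  have hS := injSeq_shortExact F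
  choose e he using fun i : Fin (n + 2) → ι =>
    C.good_surjective hF hS rfl (C.inter_mem hU i) (c i)
  have hge : ccMap U (injSeq F).g.hom (n + 1) e = c := funext he
  obtain ⟨t, ht⟩ := ccMap_exact U hS (cdiff U (injSeq F).X₂.obj (n + 1) e) (by
    rw [← cdiff_ccMap, hge, hc])
  obtain ⟨b, hb⟩ := hF ι U hU (n + 1) t (ccMap_injective U hS _ (by
    rw [← cdiff_ccMap, ht, cdiff_cdiff, map_zero]))
  obtain ⟨a, ha⟩ := injective_cexact U (injSeq F).X₂ n (e - ccMap U (injSeq F).f.hom (n + 1) b) (by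
    rw [map_sub, cdiff_ccMap]
    erw [hb]
    rw [ht, sub_self])
  refine ⟨ccMap U (injSeq F).g.hom n a, ?_⟩
  rw [cdiff_ccMap, ha, map_sub, ccMap_comp U hS, sub_zero, hge]

/-- Cartan's criterion. -/
theorem subsingleton_HU {F : AbSh X} (hF : C.Good F) {V : Opens X} (hV : C.B V) (n : ℕ) :
    Subsingleton (HU V F (n + 1)) := by
  induction n generalizing F with
  | zero =>
    haveI := subsingleton_of_injective V (injSeq F).X₂ 0
    exact subsingleton_one_of_surjective (injSeq_shortExact F) V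
      (C.good_surjective hF (injSeq_shortExact F) rfl hV)
  | succ n ih =>
    haveI := ih (C.good_quot hF)
    haveI := subsingleton_of_injective V (injSeq F).X₂ (n + 1)
    exact subsingleton_shift (injSeq_shortExact F) V (n + 1)

end CartanSetup

end Groth.Agent.CohBase
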