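import Groth.Agent.CohBase.Cech
import Mathlib.Topology.Sheaves.Stalks
import Mathlib.Algebra.Category.Grp.Colimits
import Mathlib.Algebra.Category.Grp.FilteredColimits
import Mathlib.CategoryTheory.Preadditive.Injective.Basic

/-!
# Injective abelian sheaves have exact Čech complexes
-/

universe u

open CategoryTheory CategoryTheory.Limits Opposite TopologicalSpace

namespace Groth.Agent.CohBase

variable {X : Type u} [TopologicalSpace X]

/-- Underlying presheaf on `TopCat.of X`. -/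
noncomputable abbrev topPre (F : AbSh X) : TopCat.Presheaf AddCommGrpCat.{u} (TopCat.of X) := F.obj

/-- The stalk. -/
noncomputable abbrev stk (F : AbSh X) (x : X) : AddCommGrpCat.{u} := (topPre F).stalk x

/-- Presheaf of families of germs. -/
noncomputable def godPre (F : AbSh X) : TopCat.Presheaf AddCommGrpCat.{u} (TopCat.of X) where
  obj W := AddCommGrpCat.of (∀ x : W.unop, stk F x.1)
  map {V W} h := AddCommGrpCat.ofHom (Pi.addMonoidHom fun x =>
    Pi.evalAddMonoidHom (fun y : V.unop => (stk F y.1 : Type u)) ⟨x.1, h.unop.le x.2⟩)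
  map_id _ := rfl
  map_comp _ _ := rfl

lemma godPre_isSheaf (F : AbSh X) : (godPre F).IsSheaf := by
  rw [TopCat.Presheaf.isSheaf_iff_isSheafUniqueGluing]
  intro κ V sf hsf
  have hmem : ∀ x : ↥(iSup V), ∃ k, x.1 ∈ V k := fun x => Opens.mem_iSup.mp x.2
  choose k hk using hmem
  refine ⟨fun x => sf (k x) ⟨x.1, hk x⟩, fun a => funext fun x => ?_, fun g hg => funext fun x => ?_⟩
  · exact congrFun (hsf (k ⟨x.1, Opens.mem_iSup.mpr ⟨a, x.2⟩⟩) a) ⟨x.1, hk _, x.2⟩
  · exact congrFun (hg (k x)) ⟨x.1, hk x⟩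

/-- Godement's sheaf. -/
noncomputable def god (F : AbSh X) : AbSh X := ⟨godPre F, godPre_isSheaf F⟩

/-- Germs. -/
noncomputable def godι (F : AbSh X) : F ⟶ god F :=
  ⟨{ app := fun W => AddCommGrpCat.ofHom
      (Pi.addMonoidHom fun x : W.unop => ((topPre F).germ W.unop x.1 x.2).hom)
     naturality := fun V W h => by
      refine AddCommGrpCat.hom_ext (AddMonoidHom.ext fun s => funext fun x => ?_)
      exact (topPre F).germ_res_apply h.unop x.1 x.2 s }⟩

instance (F : AbSh X) : Mono (godι F) := by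
  refine ⟨fun {Z} g h e => ?_⟩
  ext W s
  refine TopCat.Presheaf.section_ext (X := TopCat.of X) F W.unop _ _ fun x hx => ?_
  exact congrFun (congr_arg (fun φ : Z ⟶ god F => φ.hom.app W s) e) ⟨x, hx⟩

variable {ι : Type u} (U : ι → Opens X)

lemma god_eval_congr (F : AbSh X) {n : ℕ} (c : CC U (god F).obj n) {i i' : Fin (n + 1) → ι}
    (e : i = i') (x : X) (h : x ∈ inter U i) (h' : x ∈ inter U i') :
    c i ⟨x, h⟩ = c i' ⟨x, h'⟩ := by
  subst e; rfl

lemma mem_inter_iff {n : ℕ} {i : Fin n → ι} {x : X} : x ∈ inter U i ↔ ∀ a, x ∈ U (i a) := by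
  constructor
  · exact fun h a => inter_le U i a h
  · intro h
    have : (inter U i : Set X) = ⋂ a, (U (i a) : Set X) := Opens.coe_iInf _
    rw [← SetLike.mem_coe, this, Set.mem_iInter]
    exact h

lemma god_cexact (F : AbSh X) (n : ℕ) : CExact U (god F).obj n := by
  intro c hc
  classical
  let kOf : ∀ x : X, (∃ k, x ∈ U k) → ι := fun x h => h.choose
  have hm : ∀ (i : Fin (n + 1) → ι) (x : ↥(inter U i)), ∃ k, x.1 ∈ U k :=
    fun i x => ⟨i 0, inter_le U i 0 x.2⟩
  have hcons : ∀ {m : ℕ} (i : Fin m → ι) (k : ι) (x : X), x ∈ inter U i → x ∈ U k →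
      x ∈ inter U (Fin.cons k i : Fin (m + 1) → ι) := by
    intro m i k x hx hk
    rw [mem_inter_iff]
    intro a
    cases a using Fin.cases with
    | zero => simpa using hk
    | succ a => simpa using inter_le U i a hx
  let b : CC U (god F).obj n := fun i => fun x : ↥(inter U i) =>
    c (Fin.cons (kOf x.1 (hm i x)) i)
      ⟨x.1, hcons i _ x.1 x.2 (hm i x).choose_spec⟩
  refine ⟨b, funext fun i => funext fun x => ?_⟩
  have hx : ∃ k, x.1 ∈ U k := ⟨i 0, inter_le U i 0 x.2⟩
  have hy : x.1 ∈ inter U (Fin.cons (kOf x.1 hx) i : Fin (n + 2 + 1) → ι) :=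
    hcons i _ x.1 x.2 hx.choose_spec
  have h0 := congrFun (congrFun hc (Fin.cons (kOf x.1 hx) i)) ⟨x.1, hy⟩
  rw [cdiff_apply, Fin.sum_univ_succ] at h0
  rw [cdiff_apply]
  erw [Pi.add_apply, Finset.sum_apply] at h0
  erw [Finset.sum_apply]
  set S := ∑ j : Fin (n + 2), ((-1 : ℤ) ^ (j : ℕ) •
    res (god F).obj (inter_comp_le U i j.succAbove) (b (i ∘ j.succAbove))) x with hS
  have e0 : c ((Fin.cons (kOf x.1 hx) i : Fin (n + 2 + 1) → ι) ∘ (0 : Fin (n + 3)).succAbove)
      ⟨x.1, inter_comp_le U _ _ hy⟩ = c i x :=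
    god_eval_congr U F c (by ext a; simp) x.1 _ _
  have key : c i x + -S = 0 := by
    refine Eq.trans ?_ h0
    rw [hS, ← Finset.sum_neg_distrib]
    refine congrArg₂ (· + ·) ?_ (Finset.sum_congr rfl fun j _ => ?_)
    · rw [← e0]
      simp only [Fin.val_zero, pow_zero, one_smul]
      rfl
    · simp only [Fin.val_succ, pow_succ, mul_neg, mul_one, neg_smul]
      refine congrArg (fun t : stk F x.1 => -((-1 : ℤ) ^ (j : ℕ) • t)) ?_
      refine god_eval_congr U F c ?_ x.1 _ _
      ext a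
      cases a using Fin.cases with
      | zero => simp [Function.comp]
      | succ a => simp [Function.comp]
  exact (eq_of_sub_eq_zero (by rw [sub_eq_add_neg]; exact key)).symm

lemma cexact_of_retract {P Q : (Opens X)ᵒᵖ ⥤ AddCommGrpCat.{u}} (f : P ⟶ Q) (r : Q ⟶ P)
    (h : f ≫ r = 𝟙 P) {n : ℕ} (hQ : CExact U Q n) : CExact U P n := by
  intro c hc
  obtain ⟨b, hb⟩ := hQ (ccMap U f _ c) (by rw [cdiff_ccMap, hc, map_zero])
  refine ⟨ccMap U r n b, ?_⟩
  rw [cdiff_ccMap, hb]
  funext i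
  exact congr_arg (fun φ : P ⟶ P => φ.app _ (c i)) h

/-- Injective sheaves have exact Čech complexes. -/
theorem injective_cexact (I : AbSh X) [Injective I] (n : ℕ) : CExact U I.obj n := by
  refine cexact_of_retract U (godι I).hom (Injective.factorThru (𝟙 I) (godι I)).hom ?_
    (god_cexact U I n)
  exact congr_arg (fun φ : I ⟶ I => φ.hom) (Injective.comp_factorThru (𝟙 I) (godι I))

end Groth.Agent.CohBase
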