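import Groth.Agent.CohBase.Basic
import Mathlib.CategoryTheory.Sites.SheafCohomology.Cech
import Mathlib.Algebra.Homology.ShortComplex.Ab
import Mathlib.Algebra.Category.Grp.Limits
import Mathlib.Topology.Sheaves.SheafCondition.UniqueGluing

/-!
# Concrete Čech complexes for families of opens

`CC U P n = ∀ i : Fin (n+1) → ι, P (⨅ a, U (i a))` with `cdiff`, identified with Mathlib's
`cechComplexFunctor`.
-/

universe u

open CategoryTheory CategoryTheory.Limits Opposite TopologicalSpace Simplicial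

namespace Groth.Agent.CohBase

variable {X : Type u} [TopologicalSpace X]

/-- Restriction. -/
abbrev res (P : (Opens X)ᵒᵖ ⥤ AddCommGrpCat.{u}) {V W : Opens X} (h : W ≤ V) :
    P.obj (op V) →+ P.obj (op W) :=
  (P.map (homOfLE h).op).hom

@[simp]
lemma res_res (P : (Opens X)ᵒᵖ ⥤ AddCommGrpCat.{u}) {V W T : Opens X} (h : W ≤ V) (h' : T ≤ W)
    (s : P.obj (op V)) : res P h' (res P h s) = res P (h'.trans h) s := by
  change (P.map _ ≫ P.map _) s = _
  rw [← P.map_comp]
  rfl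

@[simp]
lemma res_self (P : (Opens X)ᵒᵖ ⥤ AddCommGrpCat.{u}) {V : Opens X} (h : V ≤ V)
    (s : P.obj (op V)) : res P h s = s := by
  change P.map (𝟙 _) s = s
  rw [P.map_id]
  rfl

lemma res_map {P Q : (Opens X)ᵒᵖ ⥤ AddCommGrpCat.{u}} (f : P ⟶ Q) {V W : Opens X} (h : W ≤ V)
    (s : P.obj (op V)) : res Q h (f.app (op V) s) = f.app (op W) (res P h s) := by
  change (f.app (op V) ≫ Q.map _) s = (P.map _ ≫ f.app (op W)) s
  rw [f.naturality]

lemma res_hom (P : (Opens X)ᵒᵖ ⥤ AddCommGrpCat.{u}) {V W T : Opens X} (g : W ⟶ V) (h : T ≤ W)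
    (s : P.obj (op V)) : res P h (P.map g.op s) = res P (h.trans g.le) s :=
  res_res P g.le h s

lemma sum_hom_apply {A B : AddCommGrpCat.{u}} {κ : Type*} (s : Finset κ) (f : κ → (A ⟶ B)) (x : A) :
    (∑ k ∈ s, f k) x = ∑ k ∈ s, f k x :=
  map_sum (⟨⟨fun g : A ⟶ B => g x, rfl⟩, fun _ _ => rfl⟩ : (A ⟶ B) →+ B) f s

lemma zsmul_hom_apply {A B : AddCommGrpCat.{u}} (k : ℤ) (f : A ⟶ B) (x : A) :
    (k • f) x = k • f x :=
  map_zsmul (⟨⟨fun g : A ⟶ B => g x, rfl⟩, fun _ _ => rfl⟩ : (A ⟶ B) →+ B) k f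

variable {ι : Type u} (U : ι → Opens X) (P : (Opens X)ᵒᵖ ⥤ AddCommGrpCat.{u})

/-- Intersection of the opens of a tuple. -/
def inter {n : ℕ} (i : Fin n → ι) : Opens X := ⨅ a, U (i a)

lemma inter_le {n : ℕ} (i : Fin n → ι) (a : Fin n) : inter U i ≤ U (i a) := iInf_le _ a

lemma inter_comp_le {n m : ℕ} (i : Fin n → ι) (σ : Fin m → Fin n) :
    inter U i ≤ inter U (i ∘ σ) :=
  le_iInf fun a => iInf_le (fun b => U (i b)) (σ a)

/-- Čech cochains. -/
abbrev CC (n : ℕ) : Type u := ∀ i : Fin (n + 1) → ι, P.obj (op (inter U i))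

/-- Čech differential. -/
noncomputable def cdiff (n : ℕ) : CC U P n →+ CC U P (n + 1) where
  toFun c i := ∑ j : Fin (n + 2), (-1 : ℤ) ^ (j : ℕ) •
    res P (inter_comp_le U i j.succAbove) (c (i ∘ j.succAbove))
  map_zero' := by ext i; simp
  map_add' a b := by ext i; simp [Finset.sum_add_distrib]

lemma cdiff_apply {n : ℕ} (c : CC U P n) (i : Fin (n + 2) → ι) :
    cdiff U P n c i = ∑ j : Fin (n + 2), (-1 : ℤ) ^ (j : ℕ) •
      res P (inter_comp_le U i j.succAbove) (c (i ∘ j.succAbove)) := rfl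

/-- Functoriality of cochains. -/
noncomputable def ccMap {P Q : (Opens X)ᵒᵖ ⥤ AddCommGrpCat.{u}} (f : P ⟶ Q) (n : ℕ) :
    CC U P n →+ CC U Q n where
  toFun c i := f.app _ (c i)
  map_zero' := by ext i; simp
  map_add' a b := by ext i; simp

lemma cdiff_ccMap {P Q : (Opens X)ᵒᵖ ⥤ AddCommGrpCat.{u}} (f : P ⟶ Q) (n : ℕ) (c : CC U P n) :
    cdiff U Q n (ccMap U f n c) = ccMap U f (n + 1) (cdiff U P n c) := by
  ext i
  change (∑ j : Fin (n + 2), _) = f.app _ (∑ j : Fin (n + 2), _)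
  simp only [map_sum, map_zsmul]
  refine Finset.sum_congr rfl fun j _ => ?_
  congr 1
  exact res_map f _ _

/-- The Čech complex is exact in degree `n + 1`. -/
def CExact (n : ℕ) : Prop :=
  ∀ c : CC U P (n + 1), cdiff U P (n + 1) c = 0 → ∃ b : CC U P n, cdiff U P n b = c

/-- Mathlib's Čech complex. -/
noncomputable abbrev cK : CochainComplex AddCommGrpCat.{u} ℕ := (cechComplexFunctor U).obj P

section

variable {U P}

lemma piObj_eq {n : ℕ} (i : Fin n → ι) : (∏ᶜ fun a => U (i a)) = inter U i := by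
  refine le_antisymm (le_iInf fun a => (Pi.π (fun a => U (i a)) a).le) ?_
  exact (Pi.lift (f := fun a => U (i a)) fun a => homOfLE (inter_le U i a)).le

end

/-- The terms of Mathlib's complex. -/
noncomputable def cIso (n : ℕ) : (cK U P).X n ≅ AddCommGrpCat.of (CC U P n) where
  hom := AddCommGrpCat.ofHom (Pi.addMonoidHom fun i => (res P (piObj_eq i).ge).comp (Pi.π
      (fun i : Fin (n + 1) → ι => P.obj (op (∏ᶜ fun a => U (i a)))) i).hom)
  inv := Pi.lift (f := fun i : Fin (n + 1) → ι => P.obj (op (∏ᶜ fun a => U (i a))))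
    fun i => AddCommGrpCat.ofHom ((res P (piObj_eq i).le).comp (Pi.evalAddMonoidHom _ i))
  hom_inv_id := by
    refine Limits.Pi.hom_ext _ _ fun i => ?_
    erw [Category.assoc, Limits.Pi.lift_π, Category.id_comp]
    ext x
    change res P _ (res P _ _) = _
    rw [res_res, res_self]
    rfl
  inv_hom_id := by
    ext x i
    refine Eq.trans (congrArg (fun φ => res P (piObj_eq i).ge (φ x))
      (Limits.Pi.lift_π (f := fun i : Fin (n + 1) → ι => P.obj (op (∏ᶜ fun a => U (i a))))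
        (fun i => AddCommGrpCat.ofHom ((res P (piObj_eq i).le).comp (Pi.evalAddMonoidHom _ i))) i)) ?_
    change res P _ (res P _ _) = _
    rw [res_res, res_self]
    rfl

lemma cIso_apply (n : ℕ) (x : (cK U P).X n) (i : Fin (n + 1) → ι) :
    (cIso U P n).hom x i = res P (piObj_eq i).ge ((Pi.π
      (fun i : Fin (n + 1) → ι => P.obj (op (∏ᶜ fun a => U (i a)))) i) x) := rfl

lemma cIso_d (n : ℕ) (x : (cK U P).X n) :
    (cIso U P (n + 1)).hom ((cK U P).d n (n + 1) x) = cdiff U P n ((cIso U P n).hom x) := by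
  funext i
  rw [cIso_apply, cdiff_apply]
  have h1 : (cK U P).d n (n + 1) =
      AlgebraicTopology.AlternatingCofaceMapComplex.objD
        ((FormalCoproduct.cosimplicialObjectFunctor (FormalCoproduct.mk _ U).cech).obj P) n := by
    apply CochainComplex.of_d
  rw [h1]
  unfold AlgebraicTopology.AlternatingCofaceMapComplex.objD
  erw [sum_hom_apply, map_sum, map_sum]
  refine Finset.sum_congr rfl fun j _ => ?_
  erw [zsmul_hom_apply, map_zsmul, map_zsmul]
  congr 1
  rw [cIso_apply, res_res]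
  change res P _ ((Pi.lift _ ≫ Pi.π (fun i : Fin (n + 2) → ι => P.obj (op (∏ᶜ fun a => U (i a)))) i)
    x) = _
  rw [Limits.Pi.lift_π]
  erw [ConcreteCategory.comp_apply, res_hom]
  rfl

lemma cIso_map {P Q : (Opens X)ᵒᵖ ⥤ AddCommGrpCat.{u}} (f : P ⟶ Q) (n : ℕ)
    (x : (cK U P).X n) :
    (cIso U Q n).hom (((cechComplexFunctor U).map f).f n x) = ccMap U f n ((cIso U P n).hom x) := by
  funext i
  rw [cIso_apply]
  change res Q _ ((Limits.Pi.map _ ≫ Pi.π (fun i : Fin (n + 1) → ι => Q.obj (op (∏ᶜ fun a => U (i a)))) i)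
    x) = _
  rw [Limits.Pi.map_π]
  exact res_map f _ _

lemma cIso_surjective (n : ℕ) : Function.Surjective (cIso U P n).hom :=
  (cIso U P n).addCommGroupIsoToAddEquiv.surjective

lemma cIso_injective (n : ℕ) : Function.Injective (cIso U P n).hom :=
  (cIso U P n).addCommGroupIsoToAddEquiv.injective

lemma isZero_homology_iff (n : ℕ) : IsZero ((cK U P).homology (n + 1)) ↔ CExact U P n := by
  rw [← HomologicalComplex.exactAt_iff_isZero_homology,
    (cK U P).exactAt_iff' n (n + 1) (n + 2) (by simp) (by simp), ShortComplex.ab_exact_iff]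
  constructor
  · intro h c hc
    obtain ⟨x, rfl⟩ := cIso_surjective U P (n + 1) c
    rw [← cIso_d, map_eq_zero_iff _ (cIso_injective U P (n + 2))] at hc
    obtain ⟨y, hy⟩ := h x hc
    refine ⟨(cIso U P n).hom y, ?_⟩
    rw [← cIso_d]
    exact congr_arg _ hy
  · intro h x hx
    obtain ⟨b, hb⟩ := h ((cIso U P (n + 1)).hom x) (by
      rw [← cIso_d]
      change (cIso U P (n + 2)).hom ((cK U P).d (n + 1) (n + 2) x) = 0
      rw [show (cK U P).d (n + 1) (n + 2) x = 0 from hx, map_zero])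
    obtain ⟨y, rfl⟩ := cIso_surjective U P n b
    rw [← cIso_d] at hb
    exact ⟨y, cIso_injective U P _ hb⟩

/-- Sections of a sheaf agree if they agree locally. -/
lemma sheaf_ext (F : AbSh X) {κ : Type*} {V : κ → Opens X} {W : Opens X} (hle : ∀ k, V k ≤ W)
    (hcov : W ≤ iSup V) {s t : F.obj.obj (op W)}
    (h : ∀ k, res F.obj (hle k) s = res F.obj (hle k) t) : s = t :=
  TopCat.Sheaf.eq_of_locally_eq' (X := TopCat.of X) F V W (fun k => homOfLE (hle k)) hcov s t h

/-- Gluing. -/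
lemma sheaf_glue (F : AbSh X) {κ : Type*} {V : κ → Opens X} {W : Opens X} (hle : ∀ k, V k ≤ W)
    (hcov : W ≤ iSup V) (s : ∀ k, F.obj.obj (op (V k)))
    (h : ∀ a b, res F.obj (inf_le_left : V a ⊓ V b ≤ V a) (s a) =
      res F.obj (inf_le_right : V a ⊓ V b ≤ V b) (s b)) :
    ∃ t : F.obj.obj (op W), ∀ k, res F.obj (hle k) t = s k := by
  obtain ⟨t, ht, -⟩ := TopCat.Sheaf.existsUnique_gluing' (X := TopCat.of X) F V W
    (fun k => homOfLE (hle k)) hcov s h
  exact ⟨t, ht⟩

end Groth.Agent.CohBase
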