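import Groth.Agent.CohBase.Leray

/-!
# Vanishing of cohomology on an open from an acyclic covering
-/

universe u

open CategoryTheory CategoryTheory.Limits Opposite TopologicalSpace

namespace Groth.Agent.CohBase

variable {X : Type u} [TopologicalSpace X] {ι : Type u} (U : ι → Opens X) {V : Opens X}

/-- An acyclic covering of `V` with exact Čech complex in degree `p + 1` kills `H^(p+1)(V)`. -/
theorem subsingleton_HU_of_cover (hle : ∀ a, U a ≤ V) (hcov : V ≤ iSup U) {F : AbSh X}
    (hF : Acyclic U F) (p : ℕ) (hex : CExact U F.obj p) : Subsingleton (HU V F (p + 1)) := by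
  induction p generalizing F with
  | zero =>
    have hS := injSeq_shortExact F
    let S := injSeq F
    haveI := subsingleton_of_injective V S.X₂ 0
    refine subsingleton_of_forall_eq 0 fun x => ?_
    obtain ⟨y, rfl⟩ := hδ_surjective hS V 0 x
    rw [hδ_eq_zero_iff]
    let q := H0Equiv V S.X₃ y
    obtain ⟨e, he⟩ := hF.surjective U (aug U S.X₃.obj hle q)
    obtain ⟨c, hc⟩ := ccMap_exact U hS (cdiff U S.X₂.obj 0 e) (by
      rw [← cdiff_ccMap, he, cdiff_aug])
    obtain ⟨b, hb⟩ := hex c (ccMap_injective U hS _ (by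
      rw [← cdiff_ccMap, hc, cdiff_cdiff, map_zero]))
    obtain ⟨r, hr⟩ := aug_exact S.X₂ hle hcov (e - ccMap U S.f.hom 0 b) (by
      rw [map_sub, cdiff_ccMap]
      erw [hb]
      rw [hc, sub_self])
    refine ⟨(H0Equiv V S.X₂).symm r, ?_⟩
    apply (H0Equiv V S.X₃).injective
    rw [H0Equiv_hmap, AddEquiv.apply_symm_apply]
    refine aug_injective (U := U) S.X₃ hle hcov ?_
    refine Eq.trans ?_ he
    rw [show ccMap U (injSeq F).g.hom 0 e = ccMap U S.g.hom 0 (e - ccMap U S.f.hom 0 b) by
      rw [map_sub, ccMap_comp U hS, sub_zero], ← hr]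
    funext i
    exact res_map S.g.hom _ _
  | succ p ih =>
    have hS := injSeq_shortExact F
    let S := injSeq F
    have hexQ : CExact U S.X₃.obj p := by
      intro z hz
      obtain ⟨e, he⟩ := hF.surjective U z
      obtain ⟨c, hc⟩ := ccMap_exact U hS (cdiff U S.X₂.obj (p + 1) e) (by
        rw [← cdiff_ccMap, he, hz])
      obtain ⟨b, hb⟩ := hex c (ccMap_injective U hS _ (by
        rw [← cdiff_ccMap, hc, cdiff_cdiff, map_zero]))
      obtain ⟨a, ha⟩ := injective_cexact U S.X₂ p (e - ccMap U S.f.hom (p + 1) b) (by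
        rw [map_sub, cdiff_ccMap]
        erw [hb]
        rw [hc, sub_self])
      refine ⟨ccMap U S.g.hom p a, ?_⟩
      rw [cdiff_ccMap, ha, map_sub, ccMap_comp U hS, sub_zero, he]
    haveI : Subsingleton (HU V S.X₃ (p + 1)) := ih (hF.quot U) hexQ
    haveI := subsingleton_of_injective V S.X₂ (p + 1)
    exact (hδ_surjective hS V (p + 1)).subsingleton

end Groth.Agent.CohBase
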