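import Mathlib.AlgebraicGeometry.Modules.Tilde
import Mathlib.AlgebraicGeometry.AffineScheme

/-!
# Sections of quasi-coherent modules on basic opens of affine opens
-/

universe u

open CategoryTheory Opposite TopologicalSpace AlgebraicGeometry

namespace Groth.Agent.CohBase

variable {X : Scheme.{u}}

/-- Scalar action of a function on `W` on sections over a smaller open. -/
noncomputable def sc {M : X.Modules} {W V : X.Opens} (a : Γ(X, W)) (h : V ≤ W) :
    Γ(M, V) →+ Γ(M, V) :=
  DistribSMul.toAddMonoidHom Γ(M, V) (X.presheaf.map (homOfLE h).op a)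

lemma sc_apply {M : X.Modules} {W V : X.Opens} (a : Γ(X, W)) (h : V ≤ W) (s : Γ(M, V)) :
    sc a h s = X.presheaf.map (homOfLE h).op a • s := rfl

lemma map_sc {M : X.Modules} {W V V' : X.Opens} (a : Γ(X, W)) (h : V ≤ W) (h' : V' ≤ V)
    (s : Γ(M, V)) :
    M.presheaf.map (homOfLE h').op (sc a h s) = sc a (h'.trans h) (M.presheaf.map (homOfLE h').op s) := by
  rw [sc_apply, sc_apply]
  refine (M.val.map_smul (homOfLE h').op _ s).trans ?_
  congr 1
  change (X.presheaf.map _ ≫ X.presheaf.map _) a = _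
  rw [← X.presheaf.map_comp]
  rfl

lemma sc_mul {M : X.Modules} {W V : X.Opens} (a b : Γ(X, W)) (h : V ≤ W) (s : Γ(M, V)) :
    sc (a * b) h s = sc a h (sc b h s) := by
  simp only [sc_apply, map_mul, mul_smul]

lemma sc_add {M : X.Modules} {W V : X.Opens} (a b : Γ(X, W)) (h : V ≤ W) (s : Γ(M, V)) :
    sc (a + b) h s = sc a h s + sc b h s := by
  simp only [sc_apply, map_add, add_smul]

lemma sc_one {M : X.Modules} {W V : X.Opens} (h : V ≤ W) (s : Γ(M, V)) :
    sc (1 : Γ(X, W)) h s = s := by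
  simp only [sc_apply, map_one, one_smul]

lemma sc_zero {M : X.Modules} {W V : X.Opens} (h : V ≤ W) (s : Γ(M, V)) :
    sc (0 : Γ(X, W)) h s = 0 := by
  simp only [sc_apply, map_zero, zero_smul]

/-- Compatibility of the module structure on a restriction to an affine open. -/
lemma fromSpec_scalar {W : X.Opens} (hW : IsAffineOpen W) (V : (Spec Γ(X, W)).Opens)
    (h : hW.fromSpec ''ᵁ V ≤ W) (r : Γ(X, W)) :
    (hW.fromSpec.appIso V).inv ((Spec Γ(X, W)).presheaf.map V.leTop.op
      ((Scheme.ΓSpecIso Γ(X, W)).inv r)) = X.presheaf.map (homOfLE h).op r := by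
  have e : V ≤ hW.fromSpec ⁻¹ᵁ W := by rw [hW.fromSpec_preimage_self]; exact le_top
  have h1 : hW.fromSpec.appLE W V e =
      (Scheme.ΓSpecIso Γ(X, W)).inv ≫ (Spec Γ(X, W)).presheaf.map V.leTop.op := by
    rw [Scheme.Hom.appLE, hW.fromSpec_app_self, Category.assoc, ← Functor.map_comp]
    rfl
  exact congr_arg (fun φ => φ r)
    ((congr_arg (· ≫ (hW.fromSpec.appIso V).inv) h1).symm.trans
      (hW.fromSpec.appLE_appIso_inv e))

/-- The module structure on a restriction to an affine open, through the original module. -/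
lemma restrict_smul {W : X.Opens} (hW : IsAffineOpen W) (M : X.Modules) (V : (Spec Γ(X, W)).Opens)
    (h : hW.fromSpec ''ᵁ V ≤ W) (r : Γ(X, W)) (x : Γ(M.restrict hW.fromSpec, V)) :
    (M.restrictAppIso hW.fromSpec V).hom (r • x) =
      sc r h ((M.restrictAppIso hW.fromSpec V).hom x) := by
  rw [Scheme.Modules.smul_Spec_def, Scheme.Modules.smul_restrictAppIso_hom_apply,
    fromSpec_scalar hW V h, sc_apply]

/-- Restriction maps of a restriction. -/
lemma restrict_res {W : X.Opens} (hW : IsAffineOpen W) (M : X.Modules) {V V' : (Spec Γ(X, W)).Opens}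
    (i : V' ⟶ V) (x : Γ(M.restrict hW.fromSpec, V)) :
    (M.restrictAppIso hW.fromSpec V').hom ((M.restrict hW.fromSpec).presheaf.map i.op x) =
      M.presheaf.map (homOfLE (hW.fromSpec.image_mono i.le)).op
        ((M.restrictAppIso hW.fromSpec V).hom x) :=
  rfl

lemma restr_trans (M : X.Modules) {V V' V'' : X.Opens} (h : V' ≤ V) (h' : V'' ≤ V') (s : Γ(M, V)) :
    M.presheaf.map (homOfLE h').op (M.presheaf.map (homOfLE h).op s) =
      M.presheaf.map (homOfLE (h'.trans h)).op s := by
  rw [← ConcreteCategory.comp_apply, ← Functor.map_comp]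
  rfl

lemma restr_self (M : X.Modules) {V : X.Opens} (h : V ≤ V) (s : Γ(M, V)) :
    M.presheaf.map (homOfLE h).op s = s := by
  rw [show (homOfLE h).op = 𝟙 (op V) from rfl, M.presheaf.map_id]
  rfl

variable (M : X.Modules) [M.IsQuasicoherent]

lemma isLocalizing_restrict {W : X.Opens} (hW : IsAffineOpen W) :
    IsLocalizing (modulesSpecToSheaf.obj (M.restrict hW.fromSpec)) := by
  haveI : (M.restrict hW.fromSpec).IsQuasicoherent :=
    Scheme.Modules.isQuasicoherent_restrictFunctor _ _
  exact (isIso_fromTildeΓ_iff_isLocalizing _).mp inferInstance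

lemma localizing_surj {R : CommRingCat.{u}} (N : (Spec R).Modules)
    (h : IsLocalizing (modulesSpecToSheaf.obj N)) (f : R) (t : Γ(N, PrimeSpectrum.basicOpen f)) :
    ∃ (n : ℕ) (s : Γ(N, ⊤)), f ^ n • t =
      N.presheaf.map (PrimeSpectrum.basicOpen f).leTop.op s := by
  obtain ⟨⟨s, ⟨_, n, rfl⟩⟩, hn⟩ := (h f).surj t
  exact ⟨n, s, hn⟩

lemma localizing_eq_zero {R : CommRingCat.{u}} (N : (Spec R).Modules)
    (h : IsLocalizing (modulesSpecToSheaf.obj N)) (f : R) (s : Γ(N, ⊤))
    (hs : N.presheaf.map (PrimeSpectrum.basicOpen f).leTop.op s = 0) :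
    ∃ n : ℕ, f ^ n • s = 0 := by
  haveI := h f
  obtain ⟨⟨_, n, rfl⟩, hn⟩ := (IsLocalizedModule.eq_zero_iff (Submonoid.powers f)
    ((modulesSpecToSheaf.obj N).obj.map (PrimeSpectrum.basicOpen f).leTop.op).hom).mp hs
  exact ⟨n, hn⟩

/-- On an affine open, sections over a basic open extend after multiplying by a power. -/
theorem exists_pow_extend {W : X.Opens} (hW : IsAffineOpen W) (f : Γ(X, W))
    {V : X.Opens} (hV : V = X.basicOpen f) (t : Γ(M, V)) :
    ∃ (n : ℕ) (s : Γ(M, W)), M.presheaf.map (homOfLE (hV.le.trans (X.basicOpen_le f))).op s =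
      sc (f ^ n) (hV.le.trans (X.basicOpen_le f)) t := by
  have hVe : hW.fromSpec ''ᵁ PrimeSpectrum.basicOpen f = V := by
    rw [hW.fromSpec_image_basicOpen, hV]
  subst hVe
  obtain ⟨n, s, hs⟩ := localizing_surj _ (isLocalizing_restrict M hW) f
    ((M.restrictAppIso hW.fromSpec _).inv t)
  have htop : hW.fromSpec ''ᵁ (⊤ : (Spec Γ(X, W)).Opens) = W := by
    rw [Scheme.Hom.image_top_eq_opensRange, hW.opensRange_fromSpec]
  refine ⟨n, M.presheaf.map (homOfLE htop.ge).op ((M.restrictAppIso hW.fromSpec ⊤).hom s), ?_⟩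
  have h' := congr_arg (M.restrictAppIso hW.fromSpec _).hom hs
  rw [restrict_smul hW M _ (hV.le.trans (X.basicOpen_le f)), restrict_res,
    Iso.inv_hom_id_apply] at h'
  rw [restr_trans]
  exact h'.symm

/-- On an affine open, sections vanishing on a basic open are killed by a power. -/
theorem exists_pow_zero {W : X.Opens} (hW : IsAffineOpen W) (f : Γ(X, W))
    {V : X.Opens} (hV : V = X.basicOpen f) (s : Γ(M, W))
    (hs : M.presheaf.map (homOfLE (hV.le.trans (X.basicOpen_le f))).op s = 0) :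
    ∃ n : ℕ, sc (f ^ n) le_rfl s = 0 := by
  have hVe : hW.fromSpec ''ᵁ PrimeSpectrum.basicOpen f = V := by
    rw [hW.fromSpec_image_basicOpen, hV]
  subst hVe
  have htop : hW.fromSpec ''ᵁ (⊤ : (Spec Γ(X, W)).Opens) = W := by
    rw [Scheme.Hom.image_top_eq_opensRange, hW.opensRange_fromSpec]
  obtain ⟨n, hn⟩ := localizing_eq_zero _ (isLocalizing_restrict M hW) f
    ((M.restrictAppIso hW.fromSpec ⊤).inv (M.presheaf.map (homOfLE htop.le).op s)) (by
      apply (M.restrictAppIso hW.fromSpec _).addCommGroupIsoToAddEquiv.injective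
      refine ((restrict_res hW M _ _).trans ?_).trans (map_zero _).symm
      rw [Iso.inv_hom_id_apply, restr_trans]
      exact hs)
  refine ⟨n, ?_⟩
  have h' := congr_arg (M.restrictAppIso hW.fromSpec ⊤).hom hn
  rw [restrict_smul hW M _ htop.le, Iso.inv_hom_id_apply, map_zero, ← map_sc] at h'
  have h'' := congr_arg (M.presheaf.map (homOfLE htop.ge).op) h'
  rw [restr_trans, restr_self, map_zero] at h''
  exact h''

end Groth.Agent.CohBase
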