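import Groth.Agent.CohBase.Affine
import Mathlib.Algebra.MonoidAlgebra.Basic
import Mathlib.Algebra.MonoidAlgebra.MapDomain

/-!
# Cohomology on projective space through Laurent polynomials
-/

universe u

open CategoryTheory Opposite TopologicalSpace AlgebraicGeometry
open HomogeneousLocalization

namespace Groth.Agent.CohBase.PS

variable (n : ℕ) (R : Type u) [CommRing R]

local notation "Poly" => MvPolynomial (Fin (n + 1)) R
local notation "𝒜" => CohB1.polyGrading n R

/-- Laurent polynomials. -/
abbrev Laurent : Type u := AddMonoidAlgebra R (Fin (n + 1) →₀ ℤ)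

/-- The inclusion of exponents. -/
noncomputable def expInt : (Fin (n + 1) →₀ ℕ) →+ (Fin (n + 1) →₀ ℤ) :=
  Finsupp.mapRange.addMonoidHom (Nat.castAddMonoidHom ℤ)

lemma expInt_apply (d : Fin (n + 1) →₀ ℕ) (a : Fin (n + 1)) : expInt n d a = (d a : ℤ) := rfl

lemma expInt_injective : Function.Injective (expInt n) := fun x y h => by
  ext a; exact Int.ofNat_inj.mp congr($h a)

/-- Polynomials as Laurent polynomials. -/
noncomputable def toLaurent : Poly →+* Laurent n R :=
  AddMonoidAlgebra.mapDomainRingHom R (expInt n)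

lemma toLaurent_injective : Function.Injective (toLaurent n R) :=
  AddMonoidAlgebra.mapDomain_injective (expInt_injective n)

lemma toLaurent_monomial (d : Fin (n + 1) →₀ ℕ) (r : R) :
    toLaurent n R (MvPolynomial.monomial d r) = AddMonoidAlgebra.single (expInt n d) r :=
  AddMonoidAlgebra.mapDomain_single

/-- The product of the variables in a set. -/
noncomputable def prodX (S : Finset (Fin (n + 1))) : Poly := ∏ a ∈ S, MvPolynomial.X a

/-- Its exponent. -/
noncomputable def expS (S : Finset (Fin (n + 1))) : Fin (n + 1) →₀ ℕ :=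
  ∑ a ∈ S, Finsupp.single a 1

lemma prodX_eq (S : Finset (Fin (n + 1))) : prodX n R S = MvPolynomial.monomial (expS n S) 1 :=
  (MvPolynomial.monomial_sum_one S fun a => Finsupp.single a 1).symm

lemma expS_apply (S : Finset (Fin (n + 1))) (a : Fin (n + 1)) :
    expS n S a = if a ∈ S then 1 else 0 := by
  simp [expS, Finsupp.finsetSum_apply, Finsupp.single_apply]

lemma prodX_mem (S : Finset (Fin (n + 1))) : prodX n R S ∈ 𝒜 S.card := by
  have := MvPolynomial.IsHomogeneous.prod S (fun a => (MvPolynomial.X a : Poly)) (fun _ => 1)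
    fun a _ => MvPolynomial.isHomogeneous_X R a
  simpa [prodX] using this

lemma isUnit_toLaurent_prodX (S : Finset (Fin (n + 1))) : IsUnit (toLaurent n R (prodX n R S)) := by
  rw [prodX_eq, toLaurent_monomial]
  exact IsUnit.of_mul_eq_one (AddMonoidAlgebra.single (-expInt n (expS n S)) (1 : R)) (by
    rw [AddMonoidAlgebra.single_mul_single, add_neg_cancel, one_mul]; rfl)

/-- The map of a localization to Laurent polynomials. -/
noncomputable def locMap (S : Finset (Fin (n + 1))) :
    Localization.Away (prodX n R S) →+* Laurent n R :=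
  IsLocalization.Away.lift (prodX n R S) (isUnit_toLaurent_prodX n R S)

lemma locMap_injective (S : Finset (Fin (n + 1))) : Function.Injective (locMap n R S) := by
  refine (IsLocalization.lift_injective_iff _).mpr fun x y => ⟨fun h => ?_, fun h => ?_⟩
  · obtain ⟨c, hc⟩ := IsLocalization.exists_of_eq (M := Submonoid.powers (prodX n R S)) h
    have hu : IsUnit (toLaurent n R (c : Poly)) := by
      obtain ⟨_, k, rfl⟩ := c
      simpa using (isUnit_toLaurent_prodX n R S).pow k
    have := congrArg (toLaurent n R) hc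
    rw [map_mul, map_mul] at this
    exact hu.mul_left_cancel this
  · rw [toLaurent_injective n R h]

/-- Degree zero part of a localization as Laurent polynomials. -/
noncomputable def awayHom (S : Finset (Fin (n + 1))) :
    Away 𝒜 (prodX n R S) →+* Laurent n R :=
  (locMap n R S).comp (algebraMap (Away 𝒜 (prodX n R S)) (Localization.Away (prodX n R S)))

lemma awayHom_apply (S : Finset (Fin (n + 1))) (z : Away 𝒜 (prodX n R S)) :
    awayHom n R S z = locMap n R S z.val := rfl

lemma awayHom_injective (S : Finset (Fin (n + 1))) : Function.Injective (awayHom n R S) :=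
  (locMap_injective n R S).comp (HomogeneousLocalization.val_injective _)

lemma prod_univ_eq (S : Finset (Fin (n + 1))) :
    prodX n R Finset.univ = prodX n R S * prodX n R Sᶜ :=
  (Finset.prod_mul_prod_compl S _).symm

lemma awayHom_awayMap (S : Finset (Fin (n + 1))) (z : Away 𝒜 (prodX n R S)) :
    awayHom n R Finset.univ (awayMap 𝒜 (prodX_mem n R Sᶜ) (prod_univ_eq n R S) z) =
      awayHom n R S z := by
  rw [awayHom_apply, awayHom_apply, val_awayMap]
  set φ := Localization.awayLift (algebraMap Poly (Localization.Away (prodX n R Finset.univ)))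
    (prodX n R S) _
  have h : (locMap n R Finset.univ).comp φ = locMap n R S := by
    refine IsLocalization.ringHom_ext (Submonoid.powers (prodX n R S)) (RingHom.ext fun p => ?_)
    simp [φ, locMap, IsLocalization.Away.lift, Localization.awayLift, IsLocalization.lift_eq]
  exact RingHom.congr_fun h z.val

/-- The condition on exponents of sections on the open attached to `S`. -/
def Good (S : Finset (Fin (n + 1))) (x : Laurent n R) : Prop :=
  ∀ e ∈ x.coeff.support, (∑ a, e a) = 0 ∧ ∀ a, a ∉ S → 0 ≤ e a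

lemma awayHom_mk (S : Finset (Fin (n + 1))) (k : ℕ) (p : Poly) (hp : p ∈ 𝒜 (k • S.card)) :
    awayHom n R S (Away.mk 𝒜 (prodX_mem n R S) k p hp) =
      AddMonoidAlgebra.single (-(k • expInt n (expS n S))) (1 : R) * toLaurent n R p := by
  have hu : toLaurent n R (prodX n R S ^ k) *
      AddMonoidAlgebra.single (-(k • expInt n (expS n S))) (1 : R) = 1 := by
    rw [prodX_eq, MvPolynomial.monomial_pow, one_pow, toLaurent_monomial, map_nsmul,
      AddMonoidAlgebra.single_mul_single, add_neg_cancel, one_mul]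
    rfl
  have h : awayHom n R S (Away.mk 𝒜 (prodX_mem n R S) k p hp) * toLaurent n R (prodX n R S ^ k) =
      toLaurent n R p := by
    rw [awayHom_apply, Away.val_mk]
    simp only [locMap, IsLocalization.Away.lift, Localization.mk_eq_mk']
    rw [mul_comm]
    exact ((IsLocalization.lift_mk'_spec (M := Submonoid.powers (prodX n R S)) _ _ _ _).mp rfl).symm
  calc _ = awayHom n R S (Away.mk 𝒜 (prodX_mem n R S) k p hp) * (toLaurent n R (prodX n R S ^ k) *
        AddMonoidAlgebra.single (-(k • expInt n (expS n S))) (1 : R)) := by rw [hu, mul_one]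
    _ = _ := by rw [← mul_assoc, h, mul_comm]

lemma good_awayHom (S : Finset (Fin (n + 1))) (z : Away 𝒜 (prodX n R S)) :
    Good n R S (awayHom n R S z) := by
  classical
  obtain ⟨k, p, hp, rfl⟩ := Away.mk_surjective 𝒜 (prodX_mem n R S) z
  rw [awayHom_mk, ← MvPolynomial.support_sum_monomial_coeff p, map_sum, Finset.mul_sum]
  intro e he
  rw [AddMonoidAlgebra.coeff_sum] at he
  obtain ⟨d, hd, he⟩ := Finset.mem_biUnion.mp (Finsupp.support_finsetSum he)
  rw [toLaurent_monomial, AddMonoidAlgebra.single_mul_single, AddMonoidAlgebra.coeff_single] at he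
  obtain rfl := Finset.mem_singleton.mp (Finsupp.support_single_subset he)
  have hd' : d.degree = k • S.card := by
    rw [MvPolynomial.mem_support_iff] at hd
    have hp' : p.IsHomogeneous (k • S.card) := hp
    rw [Finsupp.degree_eq_weight_one]
    exact hp' hd
  constructor
  · simp only [Finsupp.coe_add, Pi.add_apply, Finsupp.neg_apply, Finsupp.smul_apply, expInt_apply,
      expS_apply, Finset.sum_add_distrib, Finset.sum_neg_distrib, smul_eq_mul, nsmul_eq_mul,
      Nat.cast_ite, Nat.cast_one, Nat.cast_zero, ← Finset.mul_sum, Finset.sum_ite_mem,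
      Finset.univ_inter, Finset.sum_const, mul_one]
    rw [← Nat.cast_sum, ← Finsupp.degree_eq_sum, hd', smul_eq_mul, Nat.cast_mul]
    ring
  · intro a ha
    simp only [Finsupp.coe_add, Pi.add_apply, Finsupp.neg_apply, Finsupp.smul_apply, expInt_apply,
      expS_apply, if_neg ha]
    simp

lemma exists_awayHom (S : Finset (Fin (n + 1))) (x : Laurent n R) (hx : Good n R S x) :
    ∃ z, awayHom n R S z = x := by
  classical
  let k := x.coeff.support.sup fun e => Finset.univ.sup fun a => (-e a).toNat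
  let d : (Fin (n + 1) →₀ ℤ) → (Fin (n + 1) →₀ ℕ) := fun e =>
    Finsupp.equivFunOnFinite.symm fun a => (e a + k * (expS n S a : ℤ)).toNat
  have hd : ∀ e ∈ x.coeff.support, expInt n (d e) = e + k • expInt n (expS n S) := by
    intro e he
    ext a
    simp only [d, expInt_apply, Finsupp.coe_add, Pi.add_apply, Finsupp.smul_apply,
      Finsupp.equivFunOnFinite_symm_apply_apply, nsmul_eq_mul]
    refine Int.toNat_of_nonneg ?_
    rw [expS_apply]
    split_ifs with ha
    · have h : (-e a).toNat ≤ k :=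
        (Finset.le_sup (f := fun a => (-e a).toNat) (Finset.mem_univ a)).trans
          (Finset.le_sup (f := fun e : Fin (n + 1) →₀ ℤ => Finset.univ.sup fun a => (-e a).toNat) he)
      push_cast
      omega
    · simpa using (hx e he).2 a ha
  let p : Poly := ∑ e ∈ x.coeff.support, MvPolynomial.monomial (d e) (x.coeff e)
  have hp : p ∈ 𝒜 (k • S.card) := by
    refine Submodule.sum_mem _ fun e he => MvPolynomial.isHomogeneous_monomial _ ?_
    have h : (∑ a, (d e a : ℤ)) = ((k • S.card : ℕ) : ℤ) := by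
      have h' : ∀ a, (d e a : ℤ) = e a + k * (expS n S a : ℤ) := fun a => by
        have := congr($(hd e he) a)
        simpa [expInt_apply] using this
      simp only [h', Finset.sum_add_distrib, (hx e he).1, expS_apply, ← Finset.mul_sum,
        Nat.cast_ite, Nat.cast_one, Nat.cast_zero, Finset.sum_ite_mem, Finset.univ_inter]
      simp
    rw [Finsupp.degree_eq_sum]
    exact_mod_cast h
  refine ⟨Away.mk 𝒜 (prodX_mem n R S) k p hp, ?_⟩
  rw [awayHom_mk, map_sum, Finset.mul_sum]
  have hterm : ∀ e ∈ x.coeff.support,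
      AddMonoidAlgebra.single (-(k • expInt n (expS n S))) (1 : R) *
        toLaurent n R (MvPolynomial.monomial (d e) (x.coeff e)) =
      AddMonoidAlgebra.single e (x.coeff e) := by
    intro e he
    rw [toLaurent_monomial, AddMonoidAlgebra.single_mul_single, one_mul, hd e he]
    congr 1
    abel
  rw [Finset.sum_congr rfl hterm]
  exact AddMonoidAlgebra.sum_coeff_single x

/-- An exponent index that is nonnegative. -/
noncomputable def sel (e : Fin (n + 1) →₀ ℤ) : Fin (n + 1) := by
  classical exact if h : ∃ a, 0 ≤ e a then h.choose else 0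

lemma sel_nonneg {e : Fin (n + 1) →₀ ℤ} (he : (∑ a, e a) = 0) : 0 ≤ e (sel n e) := by
  have h : ∃ a, 0 ≤ e a := by
    by_contra h
    push_neg at h
    have := Finset.sum_lt_sum_of_nonempty Finset.univ_nonempty (f := fun a => e a)
      (g := fun _ => (0 : ℤ)) fun a _ => h a
    simp [he] at this
  rw [sel, dif_pos h]
  exact h.choose_spec

/-- Projection to the exponents with a given selected index. -/
noncomputable def proj (k : Fin (n + 1)) : Laurent n R →+ Laurent n R where
  toFun x := AddMonoidAlgebra.ofCoeff (x.coeff.filter fun e => sel n e = k)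
  map_zero' := by simp [Finsupp.filter_zero]
  map_add' x y := by simp [Finsupp.filter_add]

lemma sum_proj (x : Laurent n R) : ∑ k, proj n R k x = x := by
  classical
  apply AddMonoidAlgebra.coeff_injective
  ext e
  simp [proj, AddMonoidAlgebra.coeff_sum, Finsupp.finsetSum_apply, Finsupp.filter_apply]

lemma good_proj (S : Finset (Fin (n + 1))) (k : Fin (n + 1)) (x : Laurent n R)
    (hx : Good n R (insert k S) x) : Good n R S (proj n R k x) := by
  classical
  intro e he
  simp only [proj, AddMonoidHom.coe_mk, ZeroHom.coe_mk, AddMonoidAlgebra.coeff_ofCoeff,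
    Finsupp.support_filter, Finset.mem_filter] at he
  obtain ⟨h1, h2⟩ := hx e he.1
  refine ⟨h1, fun a ha => ?_⟩
  by_cases hak : a = k
  · rw [hak, ← he.2]
    exact sel_nonneg n h1
  · exact h2 a (by simp [hak, ha])

lemma Good.add {S : Finset (Fin (n + 1))} {x y : Laurent n R} (hx : Good n R S x)
    (hy : Good n R S y) : Good n R S (x + y) := by
  classical
  intro e he
  rw [AddMonoidAlgebra.coeff_add] at he
  rcases Finset.mem_union.mp (Finsupp.support_add he) with h | h
  · exact hx e h
  · exact hy e h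

/-- The variables as a family of opens. -/
noncomputable abbrev U : ULift.{u} (Fin (n + 1)) → (Proj 𝒜).Opens :=
  fun a => Proj.basicOpen 𝒜 (MvPolynomial.X a.down)

/-- The support of a tuple. -/
noncomputable abbrev img {m : ℕ} (i : Fin m → ULift.{u} (Fin (n + 1))) : Finset (Fin (n + 1)) :=
  Finset.univ.image fun a => (i a).down

lemma inter_U {m : ℕ} (i : Fin m → ULift.{u} (Fin (n + 1))) :
    inter (U n R) i = Proj.basicOpen 𝒜 (prodX n R (img n i)) := by
  ext x
  change x ∈ inter (U n R) i ↔ x ∈ Proj.basicOpen 𝒜 (prodX n R (img n i))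
  rw [mem_inter_iff, Proj.mem_basicOpen, prodX]
  erw [x.isPrime.prod_mem_iff]
  simp only [U, Proj.mem_basicOpen, img, Finset.mem_image, Finset.mem_univ, true_and]
  constructor
  · rintro h ⟨_, ⟨a, rfl⟩, ha⟩
    exact h a ha
  · intro h a ha
    exact h ⟨_, ⟨a, rfl⟩, ha⟩

lemma top_le_iSup_U : (⊤ : (Proj 𝒜).Opens) ≤ iSup (U n R) := by
  refine (Proj.iSup_basicOpen_eq_top' 𝒜 (fun a : ULift.{u} (Fin (n + 1)) => MvPolynomial.X a.down)
    (fun a => ⟨1, MvPolynomial.isHomogeneous_X R a.down⟩) ?_).ge
  rw [eq_top_iff]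
  intro p hp0
  clear hp0
  induction p using MvPolynomial.induction_on with
  | C r =>
    exact Subalgebra.algebraMap_mem
      (Algebra.adjoin (𝒜 0) (Set.range fun a : ULift.{u} (Fin (n + 1)) => (MvPolynomial.X a.down : Poly)))
      ⟨MvPolynomial.C r, MvPolynomial.isHomogeneous_C _ r⟩
  | add p q hp hq => exact add_mem hp hq
  | mul_X p a hp => exact mul_mem hp (Algebra.subset_adjoin ⟨ULift.up a, rfl⟩)

/-- Basic opens of homogeneous elements of positive degree. -/
def IsHBasic (V : (Proj 𝒜).Opens) : Prop :=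
  ∃ (f : Poly) (d : ℕ), 0 < d ∧ f ∈ 𝒜 d ∧ V = Proj.basicOpen 𝒜 f

lemma IsHBasic.inf {V W : (Proj 𝒜).Opens} :
    IsHBasic n R V → IsHBasic n R W → IsHBasic n R (V ⊓ W) := by
  rintro ⟨f, d, hd, hf, rfl⟩ ⟨g, e, he, hg, rfl⟩
  exact ⟨f * g, d + e, by omega, SetLike.GradedMul.mul_mem hf hg, (Proj.basicOpen_mul 𝒜 f g).symm⟩

lemma IsHBasic.isAffineOpen {V : (Proj 𝒜).Opens} : IsHBasic n R V → IsAffineOpen V := by
  rintro ⟨f, d, hd, hf, rfl⟩
  exact Proj.isAffineOpen_basicOpen 𝒜 f hf hd

lemma isHBasic_U (a : ULift.{u} (Fin (n + 1))) : IsHBasic n R (U n R a) :=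
  ⟨MvPolynomial.X a.down, 1, one_pos, MvPolynomial.isHomogeneous_X R a.down, rfl⟩

/-- Vanishing above the dimension. -/
theorem vanishing_gt (M : (Proj 𝒜).Modules) [Coh.IsQCoh M] (i : ℕ) (hi : n < i) :
    Subsingleton (Coh.HH (Proj 𝒜) M i) := by
  refine subsingleton_HH M i ?_
  have htop : (⊤ : (Proj 𝒜).Opens) = ⨆ a : Fin (n + 1), U n R (ULift.up a) :=
    le_antisymm ((top_le_iSup_U n R).trans (iSup_le fun a =>
      le_iSup (fun a : Fin (n + 1) => U n R (ULift.up a)) a.down)) le_top
  rw [htop]
  exact subsingleton_HU_iUnion (Coh.toAb M) (IsHBasic n R) (IsHBasic.inf n R)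
    (fun h m => affine_vanishing M (h.isAffineOpen n R) m) (n + 1) _
    (fun a => isHBasic_U n R _) i hi

lemma img_nonempty {m : ℕ} (i : Fin (m + 1) → ULift.{u} (Fin (n + 1))) : (img n i).Nonempty :=
  ⟨(i 0).down, Finset.mem_image_of_mem _ (Finset.mem_univ _)⟩

lemma basicOpen_univ_le (S : Finset (Fin (n + 1))) :
    Proj.basicOpen 𝒜 (prodX n R Finset.univ) ≤ Proj.basicOpen 𝒜 (prodX n R S) :=
  Proj.basicOpen_mono 𝒜 _ _ ⟨_, prod_univ_eq n R S⟩

/-- Sections over the big cell as Laurent polynomials. -/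
noncomputable def cellHom : Γ(Proj 𝒜, Proj.basicOpen 𝒜 (prodX n R Finset.univ)) →+* Laurent n R :=
  (awayHom n R Finset.univ).comp
    (Proj.basicOpenIsoAway 𝒜 (prodX n R Finset.univ) (prodX_mem n R Finset.univ) (by simp)).inv.hom

/-- Sections over an open containing the big cell as Laurent polynomials. -/
noncomputable def secHom {V : (Proj 𝒜).Opens}
    (h : Proj.basicOpen 𝒜 (prodX n R Finset.univ) ≤ V) : Γ(Proj 𝒜, V) →+* Laurent n R :=
  (cellHom n R).comp ((Proj 𝒜).presheaf.map (homOfLE h).op).hom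

lemma secHom_res {V W : (Proj 𝒜).Opens} (hW : W ≤ V)
    (h : Proj.basicOpen 𝒜 (prodX n R Finset.univ) ≤ W) (s : Γ(Proj 𝒜, V)) :
    secHom n R h ((Proj 𝒜).presheaf.map (homOfLE hW).op s) = secHom n R (h.trans hW) s := by
  refine congrArg (cellHom n R) ?_
  change ((Proj 𝒜).presheaf.map _ ≫ (Proj 𝒜).presheaf.map _) s = _
  rw [← Functor.map_comp]
  rfl

lemma secHom_awayToSection (S : Finset (Fin (n + 1))) (z : Away 𝒜 (prodX n R S)) :
    secHom n R (basicOpen_univ_le n R S) (Proj.awayToSection 𝒜 (prodX n R S) z) =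
      awayHom n R S z := by
  have h : Proj.awayToSection 𝒜 (prodX n R Finset.univ)
      (awayMap 𝒜 (prodX_mem n R Sᶜ) (prod_univ_eq n R S) z) =
      (Proj 𝒜).presheaf.map (homOfLE (basicOpen_univ_le n R S)).op
        (Proj.awayToSection 𝒜 (prodX n R S) z) :=
    congr($(Proj.awayMap_awayToSection 𝒜 (f := prodX n R S) (prodX_mem n R Sᶜ)
      (prod_univ_eq n R S)) z)
  simp only [secHom, cellHom, RingHom.comp_apply]
  erw [← h]
  rw [← awayHom_awayMap n R S z]
  refine congrArg (awayHom n R Finset.univ) ?_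
  rw [← Proj.basicOpenIsoAway_hom 𝒜 (prodX n R Finset.univ) (prodX_mem n R Finset.univ) (by simp)]
  exact Iso.hom_inv_id_apply _ _

lemma awayToSection_surjective (S : Finset (Fin (n + 1))) (hS : S.Nonempty) :
    Function.Surjective (Proj.awayToSection 𝒜 (prodX n R S)) := fun s =>
  ⟨(Proj.basicOpenIsoAway 𝒜 (prodX n R S) (prodX_mem n R S) hS.card_pos).inv s,
    (Proj.basicOpenIsoAway 𝒜 (prodX n R S) (prodX_mem n R S) hS.card_pos).inv_hom_id_apply s⟩

lemma univ_le_inter {m : ℕ} (i : Fin m → ULift.{u} (Fin (n + 1))) :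
    Proj.basicOpen 𝒜 (prodX n R Finset.univ) ≤ inter (U n R) i := by
  rw [inter_U]; exact basicOpen_univ_le n R _

lemma secHom_eq {m : ℕ} (i : Fin (m + 1) → ULift.{u} (Fin (n + 1)))
    (s : Γ(Proj 𝒜, inter (U n R) i)) :
    ∃ z : Away 𝒜 (prodX n R (img n i)),
      s = (Proj 𝒜).presheaf.map (homOfLE (inter_U n R i).le).op (Proj.awayToSection 𝒜 _ z) ∧
      secHom n R (univ_le_inter n R i) s = awayHom n R _ z := by
  obtain ⟨z, hz⟩ := awayToSection_surjective n R _ (img_nonempty n i)
    ((Proj 𝒜).presheaf.map (homOfLE (inter_U n R i).ge).op s)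
  have hs : s = (Proj 𝒜).presheaf.map (homOfLE (inter_U n R i).le).op
      (Proj.awayToSection 𝒜 _ z) := by
    rw [hz, ← ConcreteCategory.comp_apply, ← Functor.map_comp]
    change s = (Proj 𝒜).presheaf.map (𝟙 _) s
    rw [(Proj 𝒜).presheaf.map_id]
    rfl
  refine ⟨z, hs, ?_⟩
  conv_lhs => rw [hs, secHom_res]
  exact secHom_awayToSection n R _ z

lemma secHom_injective {m : ℕ} (i : Fin (m + 1) → ULift.{u} (Fin (n + 1))) :
    Function.Injective (secHom n R (univ_le_inter n R i)) := by
  intro s t h
  obtain ⟨z, hz, hz'⟩ := secHom_eq n R i s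
  obtain ⟨w, hw, hw'⟩ := secHom_eq n R i t
  rw [hz', hw'] at h
  rw [hz, hw, awayHom_injective n R _ h]

lemma good_secHom {m : ℕ} (i : Fin (m + 1) → ULift.{u} (Fin (n + 1)))
    (s : Γ(Proj 𝒜, inter (U n R) i)) : Good n R (img n i) (secHom n R (univ_le_inter n R i) s) := by
  obtain ⟨z, -, hz⟩ := secHom_eq n R i s
  rw [hz]; exact good_awayHom n R _ z

lemma exists_secHom {m : ℕ} (i : Fin (m + 1) → ULift.{u} (Fin (n + 1))) (x : Laurent n R)
    (hx : Good n R (img n i) x) :
    ∃ s : Γ(Proj 𝒜, inter (U n R) i), secHom n R (univ_le_inter n R i) s = x := by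
  obtain ⟨z, hz⟩ := exists_awayHom n R _ x hx
  refine ⟨(Proj 𝒜).presheaf.map (homOfLE (inter_U n R i).le).op (Proj.awayToSection 𝒜 _ z), ?_⟩
  rw [secHom_res]
  exact (secHom_awayToSection n R _ z).trans hz

/-- Sections of the structure module as functions. -/
noncomputable def unitSec (V : (Proj 𝒜).Opens) :
    (Coh.toAb (Coh.structureModule (Proj 𝒜))).obj.obj (op V) ≃+ Γ(Proj 𝒜, V) :=
  AddEquiv.refl _

lemma unitSec_res {V W : (Proj 𝒜).Opens} (h : W ≤ V)
    (s : (Coh.toAb (Coh.structureModule (Proj 𝒜))).obj.obj (op V)) :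
    unitSec n R W (res (Coh.toAb (Coh.structureModule (Proj 𝒜))).obj h s) =
      (Proj 𝒜).presheaf.map (homOfLE h).op (unitSec n R V s) := rfl

/-- The Čech complex of the structure sheaf is exact in positive degrees. -/
theorem cexact_structure (m : ℕ) :
    CExact (U n R) (Coh.toAb (Coh.structureModule (Proj 𝒜))).obj m := by
  intro c hc
  classical
  let C : (Fin (m + 1 + 1) → ULift.{u} (Fin (n + 1))) → Laurent n R := fun i =>
    secHom n R (univ_le_inter n R i) (unitSec n R _ (c i))
  let Λ : ∀ {k : ℕ} (i : Fin k → ULift.{u} (Fin (n + 1))),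
      (Coh.toAb (Coh.structureModule (Proj 𝒜))).obj.obj (op (inter (U n R) i)) →+ Laurent n R :=
    fun {k} i => (secHom n R (univ_le_inter n R i)).toAddMonoidHom.comp (unitSec n R _).toAddMonoidHom
  have hΛ : ∀ {k l : ℕ} (i : Fin k → ULift.{u} (Fin (n + 1))) (σ : Fin l → Fin k) s,
      Λ i (res _ (inter_comp_le (U n R) i σ) s) = Λ (i ∘ σ) s := fun i σ s => by
    change secHom n R _ (unitSec n R _ (res _ _ s)) = _
    rw [unitSec_res, secHom_res]
    rfl
  have hC : ∀ (k : ULift.{u} (Fin (n + 1))) (i : Fin (m + 1 + 1) → ULift.{u} (Fin (n + 1))),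
      ∑ j : Fin (m + 2), (-1 : ℤ) ^ (j : ℕ) • C (Fin.cons k (i ∘ j.succAbove)) = C i := by
    intro k i
    have h := congrArg (Λ (Fin.cons k i)) (congrFun hc (Fin.cons k i))
    rw [cdiff_apply] at h
    simp only [map_sum, map_zsmul, hΛ, Pi.zero_apply, map_zero] at h
    rw [Fin.sum_univ_succ] at h
    simp only [Fin.val_zero, pow_zero, one_smul, Fin.val_succ, pow_succ, mul_neg, mul_one, neg_smul,
      Finset.sum_neg_distrib, ← sub_eq_add_neg, sub_eq_zero] at h
    have e0 : (Fin.cons k i : Fin (m + 3) → ULift.{u} (Fin (n + 1))) ∘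
        (0 : Fin (m + 3)).succAbove = i := by ext a; simp
    have e1 : ∀ j : Fin (m + 2), (Fin.cons k i : Fin (m + 3) → ULift.{u} (Fin (n + 1))) ∘
        j.succ.succAbove = Fin.cons k (i ∘ j.succAbove) := fun j => by
      funext a
      cases a using Fin.cases with
      | zero => simp [Function.comp]
      | succ a => simp [Function.comp]
    have hcongr : ∀ {a b : Fin (m + 1 + 1) → ULift.{u} (Fin (n + 1))}, a = b →
        Λ a (c a) = C b := by rintro a b rfl; rfl
    rw [hcongr e0] at h
    rw [h]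
    exact Finset.sum_congr rfl fun j _ => by rw [hcongr (e1 j)]
  have hb : ∀ i : Fin (m + 1) → ULift.{u} (Fin (n + 1)),
      Good n R (img n i) (∑ k, proj n R k (C (Fin.cons (ULift.up k) i))) := by
    intro i
    refine Finset.sum_induction _ (Good n R (img n i)) (fun _ _ => Good.add n R)
      (fun e he => by simp at he) fun k _ => good_proj n R _ k _ ?_
    have := good_secHom n R (Fin.cons (ULift.up k) i) (unitSec n R _ (c (Fin.cons (ULift.up k) i)))
    intro e he
    refine ⟨(this e he).1, fun a ha => (this e he).2 a fun h => ha ?_⟩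
    obtain ⟨t, -, rfl⟩ := Finset.mem_image.mp h
    cases t using Fin.cases with
    | zero => simp
    | succ t => simpa using Or.inr ⟨t, rfl⟩
  choose b' hb' using fun i => exists_secHom n R i _ (hb i)
  refine ⟨fun i => (unitSec n R _).symm (b' i), funext fun i => ?_⟩
  have hinj : Function.Injective (Λ i) := (secHom_injective n R i).comp (unitSec n R _).injective
  refine hinj ?_
  rw [cdiff_apply]
  simp only [map_sum, map_zsmul, hΛ]
  have hLb : ∀ i, Λ i ((unitSec n R _).symm (b' i)) =
      ∑ k, proj n R k (C (Fin.cons (ULift.up k) i)) := fun i => by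
    change secHom n R _ (unitSec n R _ ((unitSec n R _).symm (b' i))) = _
    rw [AddEquiv.apply_symm_apply, hb']
  simp only [hLb, Finset.smul_sum, ← map_zsmul]
  rw [Finset.sum_comm]
  simp only [← map_sum, hC]
  exact sum_proj n R _

/-- Higher cohomology of the structure sheaf vanishes. -/
theorem vanishing_structure (q : ℕ) (hq : 0 < q) [Coh.IsQCoh (Coh.structureModule (Proj 𝒜))] :
    Subsingleton (Coh.HH (Proj 𝒜) (Coh.structureModule (Proj 𝒜)) q) := by
  obtain ⟨m, rfl⟩ : ∃ m, q = m + 1 := ⟨q - 1, by omega⟩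
  have haff : ∀ (k : ℕ) (i : Fin (k + 1) → ULift.{u} (Fin (n + 1))),
      IsAffineOpen (inter (U n R) i) := fun k i => by
    rw [inter_U]
    exact Proj.isAffineOpen_basicOpen 𝒜 _ (prodX_mem n R _) (img_nonempty n i).card_pos
  obtain ⟨e⟩ := cechH_iso (U n R) (top_le_iSup_U n R)
    (acyclic_of_affine (Coh.structureModule (Proj 𝒜)) (U n R) haff) (m + 1)
  haveI := AddCommGrpCat.subsingleton_of_isZero
    ((isZero_homology_iff _ _ m).mpr (cexact_structure n R m))
  exact e.symm.toEquiv.subsingleton

end Groth.Agent.CohBase.PS
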