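import Groth.Agent.CohBase.Push
import Groth.Agent.CohBase.Natural

/-!
# Naturality of the pushforward comparison in endomorphisms
-/

universe u

open CategoryTheory CategoryTheory.Limits Opposite TopologicalSpace

namespace Groth.Agent.CohBase

variable {X Y : TopCat.{u}} (f : X ⟶ Y)
variable {B : Opens Y → Prop} (hB : ∀ (W : Opens Y) (y : Y), y ∈ W → ∃ V, B V ∧ y ∈ V ∧ V ≤ W)

/-- A comparison commuting with the endomorphisms of the sheaf. -/
def HasPushNat (F : AbSh X) (n : ℕ) : Prop :=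
  ∃ e : HU (⊤ : Opens X) F n ≃+ HU (⊤ : Opens Y) ((pushS f).obj F) n,
    ∀ (φ : F ⟶ F) (x : HU (⊤ : Opens X) F n),
      e (hmap ⊤ φ n x) = hmap ⊤ ((pushS f).map φ) n (e x)

include hB in
/-- Cohomology of the pushforward, naturally in endomorphisms. -/
theorem hasPushNat [(pushS f).PreservesZeroMorphisms] {F : AbSh X} (hF : PushAcyclic f B F) (n : ℕ) :
    HasPushNat f F n := by
  induction n generalizing F with
  | zero => exact ⟨pushZero f F, fun φ x => pushZero_natural f φ x⟩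
  | succ n ih =>
    have hS := injSeq_shortExact F
    have hS' := push_shortExact f hB hS hF
    let S := injSeq F
    let S' := S.map (pushS f)
    have hX2 : ∀ m, Subsingleton (HU (⊤ : Opens Y) S'.X₂ (m + 1)) := fun m => by
      change Subsingleton (HU (⊤ : Opens Y) ((pushS f).obj S.X₂) (m + 1))
      exact push_injective_acyclic f S.X₂ ⊤ m
    haveI := subsingleton_of_injective (⊤ : Opens X) S.X₂ n
    haveI := hX2 n
    cases n with
    | zero =>
      let φ₁ := hδ hS ⊤ 0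
      let φ₂ := (hδ hS' ⊤ 0).comp (pushZero f S.X₃).toAddMonoidHom
      have h1 : Function.Surjective φ₁ := hδ_surjective hS ⊤ 0
      have h2 : Function.Surjective φ₂ :=
        (hδ_surjective hS' ⊤ 0).comp (pushZero f S.X₃).surjective
      have hk : ∀ x, φ₁ x = 0 ↔ φ₂ x = 0 := fun x => by
        refine (hδ_eq_zero_iff hS ⊤ 0 x).trans ?_
        refine Iff.trans ?_ (hδ_eq_zero_iff hS' ⊤ 0 _).symm
        constructor
        · rintro ⟨y, rfl⟩
          exact ⟨pushZero f S.X₂ y, (pushZero_natural f S.g y).symm⟩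
        · rintro ⟨y, hy⟩
          obtain ⟨z, rfl⟩ := (pushZero f S.X₂).surjective y
          exact ⟨z, (pushZero f S.X₃).injective ((pushZero_natural f S.g z).trans hy)⟩
      obtain ⟨ψ, hψ⟩ := addMonoidHom_descend φ₁ h1 φ₂ fun x hx => (hk x).1 hx
      have hb : Function.Bijective ψ := by
        refine ⟨(injective_iff_map_eq_zero ψ).2 fun y hy => ?_, fun y => ?_⟩
        · obtain ⟨x, rfl⟩ := h1 y
          exact (hk x).2 ((hψ x).symm.trans hy)
        · obtain ⟨x, rfl⟩ := h2 y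
          exact ⟨φ₁ x, hψ x⟩
      refine ⟨AddEquiv.ofBijective ψ hb, fun φ y => ?_⟩
      obtain ⟨x, rfl⟩ := h1 y
      obtain ⟨Ψ, rfl⟩ := exists_extend φ
      show ψ (hmap ⊤ Ψ.τ₁ (0 + 1) (hδ hS ⊤ 0 x)) = hmap ⊤ ((pushS f).map Ψ.τ₁) (0 + 1) (ψ (φ₁ x))
      rw [hδ_naturality hS hS Ψ ⊤ 0 x, hψ x,
        show ψ (hδ hS ⊤ 0 (hmap ⊤ Ψ.τ₃ 0 x)) = φ₂ (hmap ⊤ Ψ.τ₃ 0 x) from hψ _]
      show hδ hS' ⊤ 0 (pushZero f S.X₃ (hmap ⊤ Ψ.τ₃ 0 x)) =
        hmap ⊤ ((pushS f).map Ψ.τ₁) (0 + 1) (hδ hS' ⊤ 0 (pushZero f S.X₃ x))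
      rw [pushZero_natural]
      exact (hδ_naturality hS' hS' ((pushS f).mapShortComplex.map Ψ) ⊤ 0 _).symm
    | succ n =>
      obtain ⟨e, he⟩ := ih (hF.quot f)
      haveI := subsingleton_of_injective (⊤ : Opens X) S.X₂ (n + 1)
      haveI := hX2 (n + 1)
      haveI := subsingleton_of_injective (⊤ : Opens X) S.X₂ n
      haveI := hX2 n
      let d := AddEquiv.ofBijective _ (hδ_bijective hS ⊤ (n + 1))
      let d' := AddEquiv.ofBijective _ (hδ_bijective hS' ⊤ (n + 1))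
      refine ⟨(d.symm.trans e).trans d', fun φ y => ?_⟩
      obtain ⟨x, rfl⟩ := d.surjective y
      obtain ⟨Ψ, rfl⟩ := exists_extend φ
      rw [AddEquiv.trans_apply, AddEquiv.trans_apply, AddEquiv.trans_apply, AddEquiv.trans_apply,
        show hmap ⊤ Ψ.τ₁ (n + 1 + 1) (d x) = d (hmap ⊤ Ψ.τ₃ (n + 1) x) from
          hδ_naturality hS hS Ψ ⊤ (n + 1) x,
        AddEquiv.symm_apply_apply, AddEquiv.symm_apply_apply, he]
      exact (hδ_naturality hS' hS' ((pushS f).mapShortComplex.map Ψ) ⊤ (n + 1) _).symm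

end Groth.Agent.CohBase
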