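import Groth.Agent.CohBase.Localization
import Groth.Agent.CohBase.Cartan
import Groth.Prelude.Def_Coh

/-!
# Čech exactness of quasi-coherent modules for standard coverings of affine opens
-/

universe u

open CategoryTheory Opposite TopologicalSpace AlgebraicGeometry

namespace Groth.Agent.CohBase

variable {X : Scheme.{u}}

/-- Restriction of sections of a module. -/
noncomputable abbrev rM (M : X.Modules) {V V' : X.Opens} (h : V' ≤ V) : Γ(M, V) →+ Γ(M, V') :=
  (M.presheaf.map (homOfLE h).op).hom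

lemma rM_eq_map (M : X.Modules) {V V' : X.Opens} (h : V' ≤ V) (s : Γ(M, V)) :
    rM M h s = M.presheaf.map (homOfLE h).op s := rfl

lemma rM_rM (M : X.Modules) {V V' V'' : X.Opens} (h : V' ≤ V) (h' : V'' ≤ V') (s : Γ(M, V)) :
    rM M h' (rM M h s) = rM M (h'.trans h) s := restr_trans M h h' s

lemma rM_congr (M : X.Modules) {κ : Type u} {U : κ → X.Opens} {m : ℕ}
    (c : ∀ i : Fin (m + 1) → κ, Γ(M, inter U i)) {V : X.Opens}
    {i i' : Fin (m + 1) → κ} (e : i = i') (h : V ≤ inter U i) (h' : V ≤ inter U i') :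
    rM M h (c i) = rM M h' (c i') := by
  subst e; rfl

lemma cdiffM_apply (M : X.Modules) {κ : Type u} {U : κ → X.Opens} {m : ℕ}
    (c : ∀ i : Fin (m + 1) → κ, Γ(M, inter U i)) (i : Fin (m + 2) → κ) :
    cdiff U (Coh.toAb M).obj m c i = ∑ j : Fin (m + 2), (-1 : ℤ) ^ (j : ℕ) •
      rM M (inter_comp_le U i j.succAbove) (c (i ∘ j.succAbove)) := rfl

lemma sc_res {M : X.Modules} {W W' V : X.Opens} (a : Γ(X, W)) (h' : W' ≤ W) (h : V ≤ W')
    (s : Γ(M, V)) : sc (X.presheaf.map (homOfLE h').op a) h s = sc a (h.trans h') s := by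
  simp only [sc_apply]
  congr 1
  rw [← ConcreteCategory.comp_apply, ← Functor.map_comp]
  rfl

variable {W : X.Opens} {ι : Type u} (g : ι → Γ(X, W))

/-- The family of basic opens. -/
noncomputable abbrev stdU : ι → Opens X := fun a => X.basicOpen (g a)

lemma inter_stdU_le {m : ℕ} (i : Fin (m + 1) → ι) : inter (stdU g) i ≤ W :=
  (inter_le (stdU g) i 0).trans (X.basicOpen_le _)

lemma inter_cons {m : ℕ} (k : ι) (i : Fin (m + 1) → ι) :
    inter (stdU g) (Fin.cons k i : Fin (m + 1 + 1) → ι) =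
      X.basicOpen (X.presheaf.map (homOfLE (inter_stdU_le g i)).op (g k)) := by
  refine le_antisymm ?_ ?_
  · rw [Scheme.basicOpen_res]
    refine le_inf (le_iInf fun a => ?_) ?_
    · simpa using inter_le (stdU g) (Fin.cons k i : Fin (m + 1 + 1) → ι) a.succ
    · simpa using inter_le (stdU g) (Fin.cons k i : Fin (m + 1 + 1) → ι) 0
  · rw [Scheme.basicOpen_res]
    refine le_iInf fun a => ?_
    cases a using Fin.cases with
    | zero => simp
    | succ a => simpa using inf_le_left.trans (inter_le (stdU g) i a)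

lemma isAffineOpen_inter_stdU (hW : IsAffineOpen W) :
    ∀ {m : ℕ} (i : Fin (m + 1) → ι), IsAffineOpen (inter (stdU g) i)
  | 0, i => by
    have : inter (stdU g) i = X.basicOpen (g (i 0)) := by
      change inter (stdU g) i = stdU g (i 0)
      rw [inter_const (U := stdU g) (i 0)]
      congr 1
      ext t; fin_cases t; rfl
    rw [this]
    exact hW.basicOpen _
  | m + 1, i => by
    have h := inter_cons g (i 0) (fun a => i a.succ)
    have he : (Fin.cons (i 0) (fun a => i a.succ) : Fin (m + 1 + 1) → ι) = i :=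
      Fin.cons_self_tail i
    rw [he] at h
    rw [h]
    exact (isAffineOpen_inter_stdU hW _).basicOpen _

lemma cons_comp_succ_succAbove {m : ℕ} (k : ι) (i : Fin (m + 2) → ι) (j : Fin (m + 2)) :
    (Fin.cons k i : Fin (m + 3) → ι) ∘ j.succ.succAbove = Fin.cons k (i ∘ j.succAbove) := by
  ext a
  cases a using Fin.cases with
  | zero => simp [Function.comp]
  | succ a => simp [Function.comp]

lemma cons_comp_succAbove_zero {m : ℕ} (k : ι) (i : Fin (m + 2) → ι) :
    (Fin.cons k i : Fin (m + 3) → ι) ∘ (0 : Fin (m + 3)).succAbove = i := by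
  ext a; simp

/-- Čech exactness for standard coverings. -/
theorem cexact_stdU (M : X.Modules) [M.IsQuasicoherent] (hW : IsAffineOpen W) [Finite ι]
    (hg : Ideal.span (Set.range g) = ⊤) (n : ℕ) :
    CExact (stdU g) (Coh.toAb M).obj n := by
  intro c₀ hc
  classical
  haveI := Fintype.ofFinite ι
  let c : ∀ i : Fin (n + 1 + 1) → ι, Γ(M, inter (stdU g) i) := c₀
  change cdiff (stdU g) (Coh.toAb M).obj (n + 1) c = 0 at hc
  have hle1 : ∀ (k : ι) {m : ℕ} (i : Fin (m + 1) → ι),
      inter (stdU g) (Fin.cons k i : Fin (m + 1 + 1) → ι) ≤ inter (stdU g) i := fun k m i => by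
    rw [inter_cons]; exact X.basicOpen_le _
  have H1 : ∀ (p : ι × (Fin (n + 1) → ι)), ∃ (N : ℕ) (e : Γ(M, inter (stdU g) p.2)),
      rM M (hle1 p.1 p.2) e = sc (g p.1 ^ N)
        ((hle1 p.1 p.2).trans (inter_stdU_le g p.2)) (c (Fin.cons p.1 p.2)) := by
    intro p
    obtain ⟨N, e, he⟩ := exists_pow_extend M (isAffineOpen_inter_stdU g hW p.2)
      (X.presheaf.map (homOfLE (inter_stdU_le g p.2)).op (g p.1)) (inter_cons g p.1 p.2)
      (c (Fin.cons p.1 p.2))
    refine ⟨N, e, he.trans ?_⟩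
    rw [← map_pow, sc_res]
  choose N₀ e₀ he₀ using H1
  let N := Finset.univ.sup N₀
  have H1' : ∀ k (i : Fin (n + 1) → ι), ∃ e : Γ(M, inter (stdU g) i),
      rM M (hle1 k i) e = sc (g k ^ N)
        ((hle1 k i).trans (inter_stdU_le g i)) (c (Fin.cons k i)) := by
    intro k i
    refine ⟨sc (g k ^ (N - N₀ (k, i))) (inter_stdU_le g i) (e₀ (k, i)), ?_⟩
    rw [rM_eq_map, map_sc, ← rM_eq_map, he₀ (k, i), ← sc_mul, ← pow_add,
      Nat.sub_add_cancel (Finset.le_sup (f := N₀) (Finset.mem_univ (k, i)))]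
  choose e he using H1'
  -- the defect
  let D : ∀ (k : ι) (i : Fin (n + 1 + 1) → ι), Γ(M, inter (stdU g) i) := fun k i =>
    sc (g k ^ N) (inter_stdU_le g i) (c i) - ∑ j : Fin (n + 2), (-1 : ℤ) ^ (j : ℕ) •
      rM M (inter_comp_le (stdU g) i j.succAbove) (e k (i ∘ j.succAbove))
  have H2 : ∀ k (i : Fin (n + 1 + 1) → ι), ∃ L : ℕ,
      sc (g k ^ L) (inter_stdU_le g i) (D k i) = 0 := by
    intro k i
    obtain ⟨L, hL⟩ := exists_pow_zero M (isAffineOpen_inter_stdU g hW i)
      (X.presheaf.map (homOfLE (inter_stdU_le g i)).op (g k)) (inter_cons g k i) (D k i) (by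
        rw [← rM_eq_map]
        simp only [D, map_sub, map_sum, map_zsmul]
        rw [sub_eq_zero, rM_eq_map, map_sc, ← rM_eq_map]
        have hcons := congrFun hc (Fin.cons k i)
        rw [cdiffM_apply, Fin.sum_univ_succ] at hcons
        replace hcons : _ = (0 : Γ(M, inter (stdU g) (Fin.cons k i))) := hcons
        have key : ∀ j : Fin (n + 2),
            rM M (hle1 k i) (rM M (inter_comp_le (stdU g) i j.succAbove) (e k (i ∘ j.succAbove))) =
              sc (g k ^ N) ((hle1 k i).trans (inter_stdU_le g i))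
                (rM M (inter_comp_le (stdU g) (Fin.cons k i) j.succ.succAbove)
                  (c ((Fin.cons k i : Fin (n + 3) → ι) ∘ j.succ.succAbove))) := by
          intro j
          have hle' : inter (stdU g) (Fin.cons k i : Fin (n + 3) → ι) ≤
              inter (stdU g) (Fin.cons k (i ∘ j.succAbove) : Fin (n + 2) → ι) := by
            rw [← cons_comp_succ_succAbove]
            exact inter_comp_le _ _ _
          rw [rM_rM, ← rM_rM M (hle1 k (i ∘ j.succAbove)) hle', he, rM_eq_map, map_sc,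
            ← rM_eq_map]
          exact congrArg _ (rM_congr M c (cons_comp_succ_succAbove k i j).symm _ _)
        refine Eq.trans ?_ (Finset.sum_congr rfl fun j _ => by rw [key j]).symm
        simp only [Fin.val_zero, pow_zero, one_smul, Fin.val_succ, pow_succ, mul_neg, mul_one,
          neg_smul, Finset.sum_neg_distrib, ← sub_eq_add_neg, sub_eq_zero] at hcons
        have h0 := congrArg (sc (M := M) (g k ^ N) ((hle1 k i).trans (inter_stdU_le g i))) hcons
        simp only [map_sum, map_zsmul] at h0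
        refine Eq.trans ?_ h0
        exact congrArg _ (rM_congr M c (cons_comp_succAbove_zero k i).symm _ _))
    refine ⟨L, ?_⟩
    rw [← map_pow, sc_res] at hL
    exact hL
  choose L₀ hL₀ using H2
  let L := Finset.univ.sup fun p : ι × (Fin (n + 1 + 1) → ι) => L₀ p.1 p.2
  have hL : ∀ k (i : Fin (n + 1 + 1) → ι), sc (g k ^ L) (inter_stdU_le g i) (D k i) = 0 := by
    intro k i
    obtain ⟨d, hd⟩ : ∃ d, L = d + L₀ k i := ⟨L - L₀ k i, (Nat.sub_add_cancel (Finset.le_sup
      (f := fun p : ι × (Fin (n + 1 + 1) → ι) => L₀ p.1 p.2) (Finset.mem_univ (k, i)))).symm⟩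
    rw [hd, pow_add, sc_mul, hL₀, map_zero]
  have hspan : Ideal.span (Set.range fun k => g k ^ (L + N)) = ⊤ := by
    rw [Set.range_comp' (fun x => x ^ (L + N)) g]
    exact Ideal.span_pow_eq_top _ hg _
  obtain ⟨a, ha⟩ := (Submodule.mem_span_range_iff_exists_fun _).mp
    (hspan.symm ▸ Submodule.mem_top : (1 : Γ(X, W)) ∈ Ideal.span (Set.range fun k => g k ^ (L + N)))
  let b : ∀ i : Fin (n + 1) → ι, Γ(M, inter (stdU g) i) :=
    fun i => ∑ k, sc (a k * g k ^ L) (inter_stdU_le g i) (e k i)
  refine ⟨b, funext fun i => ?_⟩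
  rw [cdiffM_apply]
  simp only [b]
  simp only [map_sum, Finset.smul_sum]
  rw [Finset.sum_comm]
  have key : ∀ k, ∑ j : Fin (n + 2), (-1 : ℤ) ^ (j : ℕ) •
      rM M (inter_comp_le (stdU g) i j.succAbove)
        (sc (a k * g k ^ L) (inter_stdU_le g _) (e k (i ∘ j.succAbove))) =
      sc (a k * g k ^ (L + N)) (inter_stdU_le g i) (c i) := by
    intro k
    have hD := hL k i
    simp only [D, map_sub, sub_eq_zero] at hD
    calc _ = ∑ j : Fin (n + 2), (-1 : ℤ) ^ (j : ℕ) • sc (a k * g k ^ L) (inter_stdU_le g i)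
            (rM M (inter_comp_le (stdU g) i j.succAbove) (e k (i ∘ j.succAbove))) :=
          Finset.sum_congr rfl fun j _ => by rw [rM_eq_map, map_sc, ← rM_eq_map]
      _ = sc (a k) (inter_stdU_le g i) (sc (g k ^ L) (inter_stdU_le g i)
            (∑ j : Fin (n + 2), (-1 : ℤ) ^ (j : ℕ) •
              rM M (inter_comp_le (stdU g) i j.succAbove) (e k (i ∘ j.succAbove)))) := by
          simp only [map_sum, map_zsmul, sc_mul]
      _ = _ := by rw [← hD, pow_add, sc_mul, sc_mul]
  rw [Finset.sum_congr rfl fun k _ => key k]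
  let scHom : Γ(X, W) →+ Γ(M, inter (stdU g) i) :=
    AddMonoidHom.mk' (fun r => sc r (inter_stdU_le g i) (c i)) fun r r' => sc_add r r' _ _
  change ∑ k, scHom (a k * g k ^ (L + N)) = c i
  rw [← map_sum, show (∑ k, a k * g k ^ (L + N)) = 1 from by simpa using ha]
  exact sc_one _ _

end Groth.Agent.CohBase
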